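import Cfsg.Agent.Omega.NOThree.SecFive

/-!
# LEMMA M+ of helper626 (#17440), K-free, all `s`, `n ≥ 3`

`(p, q)` critical, `r` the last point of the walk before `q`, `x ∼ p`, `f ∈ W_q` moves `x`, `W_x ∩ W_{x^f} ≤ W_p`
(`LemmaM.MDat`), and `[W_x, W_r] = 1` (case (β)): then the whole `[W_p, W_q]` lies in `W_r`.

* `beta_full` : LEMMA M+ over `Pts.Geom`;
* `lemMplus` : the same in the language of `Pt.Fr`, with (α);
* `exists_goal_one` : a goal pair exists if every (exact) critical pair has one special point.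
-/

set_option autoImplicit false

namespace Cfsg.Agent.Omega.NOThree.MPlus

open Subgroup Cfsg Cfsg.Agent.ZN Cfsg.Agent.MinSimple.VModule Cfsg.Agent.Omega.NOThree.Pts
open Cfsg.Agent.Omega.NOThree.LemmaM

section pts

variable {G X L : Type*} [Group G] [MulAction G X] [MulAction G L]
variable {inc : X → L → Prop} {R W : X → Subgroup G} {V : L → Subgroup G} {s t n : ℕ}
variable {p q r x : X} {l m : L} {f : G}

theorem comm_split {a w u : G} (h : a * (w * u * w⁻¹ * u⁻¹) = (w * u * w⁻¹ * u⁻¹) * a) :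
    a * w * u * (a * w)⁻¹ * u⁻¹ = (w * u * w⁻¹ * u⁻¹) * (a * u * a⁻¹ * u⁻¹) := by
  calc a * w * u * (a * w)⁻¹ * u⁻¹ = a * (w * u * w⁻¹ * u⁻¹) * (u * a⁻¹ * u⁻¹) := by group
    _ = (w * u * w⁻¹ * u⁻¹) * (a * u * a⁻¹ * u⁻¹) := by rw [h]; group

/-- **LEMMA M+** -/
theorem beta_full [Finite G] (h : MDat inc R W V s t n p q r x l m f) (hc : Com W x r)
    (hNO : NoOver inc R W V) : ∀ a ∈ W p, ∀ u ∈ W q, a * u * a⁻¹ * u⁻¹ ∈ W r := by
  have h3 := h.three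
  have hrq : r ≠ q := h.crit.ne_last (by omega) h.walk
  have hxp : Com W x p := h.crit.min 1 (by omega) _ _ (Walk.one h.xm h.pm)
  have hpr : Com W p r := h.crit.com_last (by omega) h.walk
  obtain ⟨hb1, -, hb3⟩ := h.beta hc hNO
  -- `B = W_x W_p`
  let B : Subgroup G :=
    { carrier := {g | ∃ a ∈ W x, ∃ w ∈ W p, g = a * w}
      one_mem' := ⟨1, one_mem _, 1, one_mem _, by simp⟩
      mul_mem' := by
        rintro _ _ ⟨a, ha, w, hw, rfl⟩ ⟨a', ha', w', hw', rfl⟩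
        refine ⟨a * a', mul_mem ha ha', w * w', mul_mem hw hw', ?_⟩
        calc a * w * (a' * w') = a * (w * a') * w' := by group
          _ = a * a' * (w * w') := by rw [← hxp a' ha' w hw]; group
      inv_mem' := by
        rintro _ ⟨a, ha, w, hw, rfl⟩
        refine ⟨a⁻¹, inv_mem ha, w⁻¹, inv_mem hw, ?_⟩
        rw [hxp a ha w hw]; group }
  have hxB : W x ≤ B := fun a ha => ⟨a, ha, 1, one_mem _, by simp⟩
  have hpB : W p ≤ B := fun w hw => ⟨1, one_mem _, w, hw, by simp⟩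
  -- a subgroup containing `W_x`, `W_p` contains `B`
  have hBle : ∀ Z : Subgroup G, W x ≤ Z → W p ≤ Z → B ≤ Z := by
    rintro Z h1 h2 _ ⟨a, ha, w, hw, rfl⟩
    exact mul_mem (h1 ha) (h2 hw)
  have hBcomm : ∀ a ∈ B, ∀ b ∈ B, a * b = b * a := by
    rintro _ ⟨a, ha, w, hw, rfl⟩ _ ⟨a', ha', w', hw', rfl⟩
    calc a * w * (a' * w') = a * (w * a') * w' := by group
      _ = (a * a') * (w * w') := by rw [← hxp a' ha' w hw]; group
      _ = (a' * a) * (w' * w) := by rw [h.D.comm x a ha a' ha', h.D.comm p w hw w' hw']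
      _ = a' * (a * w') * w := by group
      _ = a' * w' * (a * w) := by rw [hxp a ha w' hw']; group
  have hBsq : ∀ a ∈ B, a * a = 1 := by
    rintro _ ⟨a, ha, w, hw, rfl⟩
    calc a * w * (a * w) = a * (w * a) * w := by group
      _ = (a * a) * (w * w) := by rw [← hxp a ha w hw]; group
      _ = 1 := by rw [h.D.sq x a ha, h.D.sq p w hw, one_mul]
  have hBr : ∀ b ∈ B, ∀ c ∈ W r, b * c = c * b := by
    rintro _ ⟨a, ha, w, hw, rfl⟩ c hcr
    rw [mul_assoc, hpr w hw c hcr, ← mul_assoc, hc a ha c hcr, mul_assoc]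
  have hRr : R q ≤ W r := h.R_le_r
  -- commutators of `W_x`, `W_p` with `W_q`
  have hwq : ∀ w ∈ W p, ∀ u ∈ W q, w * u * w⁻¹ * u⁻¹ ∈ W p := by
    intro w hw u hu
    have e : w * u * w⁻¹ * u⁻¹ = w * (u * w⁻¹ * u⁻¹) := by group
    rw [e]
    exact mul_mem hw (h.D.norm_W (h.fix_p hu) (inv_mem hw))
  have hxq : ∀ a ∈ W x, ∀ u ∈ W q, ∀ b ∈ B, b * (a * u * a⁻¹ * u⁻¹) = (a * u * a⁻¹ * u⁻¹) * b := by
    intro a ha u hu
    have hup : Com W (u • x) p := by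
      refine h.crit.min 1 (by omega) _ _ (Walk.one (l := u • m) (h.D.inc_smul u _ _ h.xm) ?_)
      have := h.D.inc_smul u _ _ h.pm
      rwa [h.fix_p hu] at this
    have h1 : u * a⁻¹ * u⁻¹ ∈ W (u • x) := h.D.W_smul u x _ (inv_mem ha)
    have e : a * u * a⁻¹ * u⁻¹ = a * (u * a⁻¹ * u⁻¹) := by group
    have hp' : ∀ w ∈ W p, w * (a * u * a⁻¹ * u⁻¹) = (a * u * a⁻¹ * u⁻¹) * w := by
      intro w hw
      rw [e, ← mul_assoc, ← hxp a ha w hw, mul_assoc, ← hup _ h1 w hw, ← mul_assoc]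
    rintro _ ⟨a', ha', w, hw, rfl⟩
    rw [mul_assoc, hp' w hw, ← mul_assoc, h.comm_comm hu ha ha', mul_assoc]
  have hBq : ∀ g ∈ B, ∀ u ∈ W q, ∀ b ∈ B, b * (g * u * g⁻¹ * u⁻¹) = (g * u * g⁻¹ * u⁻¹) * b := by
    rintro _ ⟨a, ha, w, hw, rfl⟩ u hu b hb
    have h1 := hwq w hw u hu
    have h2 := hxq a ha u hu b hb
    have h4 := hBcomm b hb _ (hpB h1)
    rw [comm_split (hxp a ha _ h1), ← mul_assoc, h4, mul_assoc, h2, ← mul_assoc]
  -- `N`, `C`
  have hBR : ∀ a ∈ B, ∀ c ∈ R q, a * c = c * a := fun a ha c hcc => hBr a ha c (hRr hcc)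
  have hqR : ∀ a ∈ W q, ∀ c ∈ R q, a * c = c * a := fun a ha c hcc => h.D.comm q a ha c (h.D.R_le_W q hcc)
  have hC : ∀ u, u ∈ cm (W q) B (R q) hqR ↔ u ∈ W q ∧ ∀ a ∈ B, a * u * a⁻¹ * u⁻¹ ∈ R q := by
    intro u
    rw [mem_cm]
    refine and_congr_right fun hu => forall₂_congr fun a ha => ?_
    have e : a * u * a⁻¹ * u⁻¹ = (u * a * u⁻¹ * a⁻¹)⁻¹ := by group
    rw [e, inv_mem_iff]
  set N := cm B (W q) (R q) hBR with hNdef
  set C := cm (W q) B (R q) hqR with hCdef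
  have hNB : N ≤ B := fun a ha => (mem_cm.1 ha).1
  have hno : N.relIndex B ≤ C.relIndex (W q) := by
    refine hNO q l h.ql B ?_ hBcomm hBsq ?_ ?_ N C (fun a => mem_cm) hC
    · exact hBle _ (h.D.low_line h.crit.min h.walk' le_rfl hc h.rl)
        (h.D.low_line h.crit.min h.walk (by omega) hpr h.rl)
    · intro y hy hyq a ha u hu huy
      exact hBr a ha u (h.D.inf_le h.ql hy h.rl hyq.symm ⟨hu, huy⟩)
    · exact fun a ha b hb u hu => hBq a ha u hu b hb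
  have hCe : C.relIndex (W q) ≤ t := by
    rw [← h.D.index q r l h.ql h.rl hrq.symm]
    refine relIndex_le_of_le_left ?_ (relIndex_ne_zero' _ _)
    intro u hu
    rw [hC]
    refine ⟨hu.1, fun a ha => ?_⟩
    have e : a * u * a⁻¹ * u⁻¹ = 1 := by rw [hBr a ha u hu.2]; group
    rw [e]; exact one_mem _
  have hNx : t ≤ N.relIndex (W x) := by
    rw [← inf_relIndex_right]
    refine h.t_le hc _ fun a => ?_
    rw [mem_inf, mem_cm]
    exact ⟨fun h => ⟨h.2, h.1.2⟩, fun h => ⟨⟨hxB h.1, h.2⟩, h.1⟩⟩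
  have hB : B ≤ W x ⊔ N := by
    rw [← relIndex_eq_one]
    have e1 := relIndex_mul_relIndex N (W x ⊔ N) B le_sup_right (sup_le hxB hNB)
    have e2 : N.relIndex (W x) ≤ N.relIndex (W x ⊔ N) :=
      relIndex_le_of_le_right le_sup_left (relIndex_ne_zero' _ _)
    have e3 := relIndex_ne_zero' N (W x ⊔ N)
    have e4 := relIndex_ne_zero' (W x ⊔ N) B
    have e5 : N.relIndex (W x ⊔ N) * (W x ⊔ N).relIndex B ≤ N.relIndex (W x ⊔ N) * 1 := by
      rw [e1, mul_one]; omega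
    have e6 := Nat.le_of_mul_le_mul_left e5 (Nat.pos_of_ne_zero e3)
    omega
  have hZ : B ≤ cm B (W q) (W r) hBr := by
    refine hB.trans (sup_le (fun a ha => ?_) fun a ha => ?_)
    · exact mem_cm.2 ⟨hxB ha, fun u hu => hb3 a ha u hu⟩
    · exact mem_cm.2 ⟨hNB ha, fun u hu => hRr ((mem_cm.1 ha).2 u hu)⟩
  exact fun a ha => (mem_cm.1 (hZ (hpB ha))).2

end pts

/-! ### In the language of `Pt.Fr` -/

section fr

open Cfsg.Agent.MinSimple.Geo Cfsg.Agent.Omega.CaseL Cfsg.Agent.Omega.NO3S.TwoOne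
open Cfsg.Agent.Omega.NO3S.Pt Cfsg.Agent.Omega.NO3S.TwoFar
open Cfsg.Agent.Omega.NOThree.SecOne Cfsg.Agent.Omega.NOThree.SecFive

universe u

variable {G : Type u} [Group G] {T V : Subgroup G} {z p q r x f : G} {n : ℕ}

/-- **LEMMA M+** : (α), or `p ∉ W_q` and `[W_p, W_q] ≤ W_r`. -/
theorem lemMplus [Finite G] (h : Fr T V z) (hn : 3 ≤ n)
    (hNO : LemmaM.NoOver (NO3S.TwoFar.inc (V := V)) RR WS VL)
    (hc : Cr V n p q) (hr : Pth V (n - 1) p r) (hrq : Col V r q) (hx : Col V x p) (hf : f ∈ ws V q)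
    (hfx : f * x * f⁻¹ ≠ x) (hD : ws V x ⊓ ws V (f * x * f⁻¹) ≤ ws V p) :
    Goal V n x p r ∨ (NO3S.Pt.Com V x r ∧ p ∉ ws V q ∧ ∀ a ∈ ws V p, ∀ u ∈ ws V q, a * u * a⁻¹ * u⁻¹ ∈ ws V r) := by
  rcases (lemM h hn hNO hc hr hrq hx hf hfx hD).2 with h1 | ⟨h1, h2, -⟩
  · exact Or.inl h1
  · obtain ⟨l, m, hM⟩ := mdat h hn hc hr hrq hx hf hfx hD
    have h3 := beta_full hM h1 hNO
    exact Or.inr ⟨h1, h2, h3⟩

/-- One special point: if (α) never occurs, `p ∉ W_q` and `[W_p, W_q] ≤ W_r`. -/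
theorem le_of_beta_one [Finite G] (h : Fr T V z) (hn : 3 ≤ n)
    (hNO : LemmaM.NoOver (NO3S.TwoFar.inc (V := V)) RR WS VL)
    (hc : Cr V n p q) (hr : Pth V (n - 1) p r) (hrq : Col V r q)
    (hG : ∀ x, Sp V p q x → ¬ Goal V n x p r) (hg : ∃ x, Sp V p q x) :
    p ∉ ws V q ∧ ∀ a ∈ ws V p, ∀ b ∈ ws V q, a * b * a⁻¹ * b⁻¹ ∈ ws V r := by
  obtain ⟨x, hx⟩ := hg
  obtain ⟨hxp, f, hf, hfx, hD⟩ := id hx
  rcases lemMplus h hn hNO hc hr hrq hxp hf hfx hD with h1 | ⟨-, h1⟩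
  · exact absurd h1 (hG x hx)
  · exact h1

/-- **A goal pair exists** if every exact critical pair with `x^b ≠ p x` has a special point. -/
theorem exists_goal_one [Finite G] (h : Fr T V z) (hn : 3 ≤ n)
    (hNO : LemmaM.NoOver (NO3S.TwoFar.inc (V := V)) RR WS VL)
    (hD : (∀ p q, Cr V n p q → Exact V p q) →
      (∀ p q, Cr V n p q → ∀ x, Col V x p → x ≠ p → ∀ b ∈ ws V q, b * x * b⁻¹ ≠ p * x) →
      ∀ p q, Cr V n p q → ∃ x, Sp V p q x)
    (hex : ∃ p q, Cr V n p q) : ∃ p x q, Goal V n p x q := by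
  rcases exact_or_goal h hn hNO with hG | ⟨hE, hE'⟩
  · exact hG
  by_contra hG
  obtain ⟨p, q, hc⟩ := hex
  obtain ⟨m, rfl⟩ : ∃ m, n = m + 1 := ⟨n - 1, by omega⟩
  obtain ⟨r, g, h1, h2, h3, h4, h5, h6, -⟩ := hc.last h
  obtain ⟨r', g', h1', h2', h3', h4', h5', h6', -⟩ := hc.symm.last h
  have ha := le_of_beta_one h hn hNO hc (r := r) h1 (Col.of_mem h2 h3 h4 h5)
    (fun x _ hx => hG ⟨_, _, _, hx⟩) (hD hE hE' p q hc)
  have hb := le_of_beta_one h hn hNO hc.symm (r := r') h1' (Col.of_mem h2' h3' h4' h5')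
    (fun x _ hx => hG ⟨_, _, _, hx⟩) (hD hE hE' q p hc.symm)
  refine hG ⟨q, r, p, hc.symm, Col.of_mem h3 h2 h5 h4, h6, h1.symm, hb.1, ha.1, fun a ha' b hb' => ⟨?_, ?_⟩⟩
  · exact hc.symm.comm_mem_left h ha' hb'
  · rw [comm_inv_eq a b]
    exact (ws V r).inv_mem (ha.2 b hb' a ha')

end fr

end Cfsg.Agent.Omega.NOThree.MPlus
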