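import Cfsg.Agent.ClassTwoFusion.Quad
import Cfsg.Agent.MinSimple.Basic
import Cfsg.Agent.Lib.ProductSet

/-!
# No over-offenders (OMEGA, NO-3, (ML); #12842 of helper114, fill-ins #13080 of helper456); K-free

`H` acts on the finite group `M` (no commutativity needed), `fo M A = |A| |C_M(A)|`; `Q` is an abelian subgroup of `H`.

* `fo_mul_le` : `f(A) f(B) ≤ f(A B) f(A ∩ B)`;
* `exists_min` : if some `A ≤ Q` satisfies `f(A) > |M|` (an over-offender) there is a unique smallest subgroup `A* ≤ Q`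
  with the maximal value of `f` (`Star`), it is normalised by `N_H(Q)` and nontrivial; `Star.lt` : for `B < A*`
  `|C_M(B) : C_M(A*)| < |A* : B|`;
* `Star.le_core` : `T` a Sylow 2-subgroup with `A* ≤ T`, `P` a minimal parabolic over `T` moving `C_M(T)`, such that
  the offenders in `T` on `⟨C_M(T)^P⟩` are not over-offenders (`FFIn`, the input): `A*` lies in all `T^p`, `p ∈ P`;
* `Star.le_conj` : the same for `X_T`, the group generated by these minimal parabolics;
* `no_over` : if for all Sylow 2-subgroups `⟨X_T, N_H(T)⟩ = H`, and `O₂(H) = 1`, then there is no over-offender.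
-/

set_option autoImplicit false

namespace Cfsg.Agent.Omega.NOThree.NoOver

open Subgroup Cfsg.Agent.ClassTwoFusion.Quad Cfsg.Agent.MinSimple.MinParabolic
open scoped Pointwise

variable {H : Type*} [Group H] {M : Type*} [Group M] [MulDistribMulAction H M]

/-! ### The function `f` -/

variable (M) in
/-- `f(A) = |A| |C_M(A)|` -/
noncomputable def fo (A : Subgroup H) : ℕ := Nat.card A * Nat.card (cv M (A : Set H))

theorem cv_bot : cv M ((⊥ : Subgroup H) : Set H) = ⊤ := by
  rw [eq_top_iff]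
  intro v _ a ha
  rw [SetLike.mem_coe, mem_bot] at ha
  rw [ha, one_smul]

theorem fo_bot : fo M (⊥ : Subgroup H) = Nat.card M := by
  rw [fo, cv_bot, card_bot, one_mul, Nat.card_congr Subgroup.topEquiv.toEquiv]

theorem cv_sup (A B : Subgroup H) : cv M ((A ⊔ B : Subgroup H) : Set H) = cv M (A : Set H) ⊓ cv M (B : Set H) := by
  apply le_antisymm
  · exact le_inf (cv_anti (SetLike.coe_subset_coe.2 le_sup_left)) (cv_anti (SetLike.coe_subset_coe.2 le_sup_right))
  · rintro v ⟨h1, h2⟩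
    have h3 : A ⊔ B ≤ MulAction.stabilizer H v :=
      sup_le (fun a ha => MulAction.mem_stabilizer_iff.2 (h1 a ha)) (fun b hb => MulAction.mem_stabilizer_iff.2 (h2 b hb))
    exact fun x hx => MulAction.mem_stabilizer_iff.1 (h3 hx)

theorem card_mul_le {G : Type*} [Group G] [Finite G] (X Y Z : Subgroup G) (hX : X ≤ Z) (hY : Y ≤ Z) :
    Nat.card X * Nat.card Y ≤ Nat.card (X ⊓ Y : Subgroup G) * Nat.card Z := by
  rw [← Cfsg.Agent.Lib.ProductSet.card_mul_card_inf X Y, mul_comm]
  refine Nat.mul_le_mul_left _ ?_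
  have h1 : ((X : Set G) * (Y : Set G) : Set G) ⊆ (Z : Set G) := by
    rintro _ ⟨x, hx, y, hy, rfl⟩
    exact Z.mul_mem (hX hx) (hY hy)
  exact Nat.card_mono (Set.toFinite _) h1

theorem card_sup_mul {G : Type*} [Group G] (X Y : Subgroup G) (h : X ≤ normalizer (Y : Set G)) :
    Nat.card (X ⊔ Y : Subgroup G) * Nat.card (X ⊓ Y : Subgroup G) = Nat.card X * Nat.card Y := by
  rw [← Cfsg.Agent.Lib.ProductSet.card_mul_card_inf X Y]
  congr 1
  exact Nat.card_congr (Equiv.setCongr (Subgroup.coe_mul_of_left_le_normalizer_right X Y h))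

theorem fo_mul_le [Finite H] [Finite M] {A B : Subgroup H} (h : A ≤ normalizer (B : Set H)) :
    fo M A * fo M B ≤ fo M (A ⊔ B) * fo M (A ⊓ B) := by
  have h1 := card_sup_mul A B h
  have h2 := card_mul_le (cv M (A : Set H)) (cv M (B : Set H)) (cv M ((A ⊓ B : Subgroup H) : Set H))
    (cv_anti (SetLike.coe_subset_coe.2 inf_le_left)) (cv_anti (SetLike.coe_subset_coe.2 inf_le_right))
  rw [← cv_sup] at h2
  unfold fo
  calc Nat.card A * Nat.card (cv M (A : Set H)) * (Nat.card B * Nat.card (cv M (B : Set H)))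
      = (Nat.card A * Nat.card B) * (Nat.card (cv M (A : Set H)) * Nat.card (cv M (B : Set H))) := by ring
    _ ≤ (Nat.card A * Nat.card B) * (Nat.card (cv M ((A ⊔ B : Subgroup H) : Set H)) *
          Nat.card (cv M ((A ⊓ B : Subgroup H) : Set H))) := Nat.mul_le_mul_left _ h2
    _ = _ := by rw [← h1]; ring

/-! ### The smallest subgroup with maximal `f` -/

variable (M) in
/-- `A` is the smallest subgroup of `Q` with the maximal value of `f`, and it is an over-offender. -/
structure Star (Q A : Subgroup H) : Prop where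
  le : A ≤ Q
  ovr : Nat.card M < fo M A
  max : ∀ B ≤ Q, fo M B ≤ fo M A
  min : ∀ B ≤ Q, fo M B = fo M A → A ≤ B

theorem exists_min [Finite H] [Finite M] {Q : Subgroup H} (hQ : ∀ a ∈ Q, ∀ b ∈ Q, a * b = b * a)
    {A₀ : Subgroup H} (hA₀ : A₀ ≤ Q) (hov : Nat.card M < fo M A₀) : ∃ A, Star M Q A := by
  classical
  have hn : ∀ A ≤ Q, ∀ B ≤ Q, A ≤ normalizer (B : Set H) := by
    intro A hA B hB a ha
    rw [mem_normalizer_iff]
    intro b
    constructor
    · intro hb
      rw [hQ a (hA ha) b (hB hb), mul_inv_cancel_right]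
      exact hb
    · intro hb
      have h1 := hQ a (hA ha) _ (hB hb)
      have h2 : a * b * a⁻¹ = b := by
        have h3 : a * (a * b * a⁻¹) * a⁻¹ = a * b * a⁻¹ := by rw [h1]; group
        have h4 : a * b * a⁻¹ = a⁻¹ * (a * (a * b * a⁻¹) * a⁻¹) * a := by group
        rw [h3] at h4
        have h5 : a⁻¹ * (a * b * a⁻¹) * a = b := by group
        rw [h5] at h4
        exact h4
      rwa [h2] at hb
  -- a member with maximal value of `f`, and of smallest order among these
  obtain ⟨A₁, hA₁, hmax⟩ : ∃ A₁ ≤ Q, ∀ B ≤ Q, fo M B ≤ fo M A₁ := by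
    obtain ⟨A₁, h1, h2⟩ := Set.exists_max_image {A : Subgroup H | A ≤ Q} (fun A => fo M A) (Set.toFinite _) ⟨A₀, hA₀⟩
    exact ⟨A₁, h1, fun B hB => h2 B hB⟩
  obtain ⟨A, ⟨hA, hAf⟩, hAmin⟩ := Set.exists_min_image {A : Subgroup H | A ≤ Q ∧ fo M A = fo M A₁}
    (fun A => Nat.card A) (Set.toFinite _) ⟨A₁, hA₁, rfl⟩
  have hpos : 0 < fo M A := Nat.mul_pos Nat.card_pos Nat.card_pos
  refine ⟨A, hA, ?_, fun B hB => (hmax B hB).trans hAf.ge, ?_⟩
  · rw [hAf]
    exact hov.trans_le (hmax A₀ hA₀)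
  · intro B hB hBf
    have h1 := fo_mul_le (M := M) (hn A hA B hB)
    rw [hBf] at h1
    have h2 : fo M (A ⊔ B) ≤ fo M A := (hmax _ (sup_le hA hB)).trans hAf.ge
    have h3 : fo M (A ⊓ B) ≤ fo M A := (hmax _ (inf_le_left.trans hA)).trans hAf.ge
    have h4 : fo M A ≤ fo M (A ⊓ B) := by
      by_contra hlt
      rw [not_le] at hlt
      have h5 : fo M (A ⊔ B) * fo M (A ⊓ B) < fo M A * fo M A :=
        lt_of_le_of_lt (Nat.mul_le_mul_right _ h2) (Nat.mul_lt_mul_of_pos_left hlt hpos)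
      exact absurd h1 (not_le.2 h5)
    have h5 := hAmin (A ⊓ B) ⟨inf_le_left.trans hA, (le_antisymm h3 h4).trans hAf⟩
    have h6 : A ⊓ B = A := eq_of_le_of_card_ge inf_le_left h5
    exact inf_eq_left.1 h6

namespace Star

variable {Q A : Subgroup H}

theorem ne_bot (h : Star M Q A) : A ≠ ⊥ := by
  rintro rfl
  have := h.ovr
  rw [fo_bot] at this
  exact lt_irrefl _ this

theorem map_fo (g : H) (B : Subgroup H) : fo M (B.map (MulAut.conj g).toMonoidHom) = fo M B := by
  rw [fo, fo, QData.cv_map_conj]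
  congr 1
  · exact (Nat.card_congr (B.equivMapOfInjective _ (MulAut.conj g).injective).toEquiv).symm
  · exact (Nat.card_congr ((cv M (B : Set H)).equivMapOfInjective _
      (MulDistribMulAction.toMulEquiv M g : M ≃* M).injective).toEquiv).symm

/-- `N_H(Q)` normalises `A*`. -/
theorem conj_mem [Finite H] (h : Star M Q A) {g : H} (hg : ∀ q ∈ Q, g * q * g⁻¹ ∈ Q) {a : H} (ha : a ∈ A) :
    g * a * g⁻¹ ∈ A := by
  have hsurj : ∀ q ∈ Q, g⁻¹ * q * g ∈ Q := by
    have h1 : Q.map (MulAut.conj g).toMonoidHom ≤ Q := by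
      rintro _ ⟨q, hq, rfl⟩
      exact hg q hq
    have h2 : Q.map (MulAut.conj g).toMonoidHom = Q :=
      eq_of_le_of_card_ge h1 (Nat.card_congr (Q.equivMapOfInjective _ (MulAut.conj g).injective).toEquiv).le
    intro q hq
    rw [← h2] at hq
    obtain ⟨q', hq', rfl⟩ := hq
    have : g⁻¹ * (MulAut.conj g).toMonoidHom q' * g = q' := by
      change g⁻¹ * (g * q' * g⁻¹) * g = q'
      group
    rw [this]
    exact hq'
  have h3 : A.map (MulAut.conj g⁻¹).toMonoidHom ≤ Q := by
    rintro _ ⟨q, hq, rfl⟩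
    have := hsurj q (h.le hq)
    change g⁻¹ * q * g⁻¹⁻¹ ∈ Q
    rwa [inv_inv]
  have h4 := h.min _ h3 (map_fo g⁻¹ A) ha
  obtain ⟨b, hb, hab⟩ := h4
  have h5 : g * a * g⁻¹ = b := by
    rw [← hab]
    change g * (g⁻¹ * b * g⁻¹⁻¹) * g⁻¹ = b
    group
  rw [h5]
  exact hb

/-- `|C_M(B) : C_M(A*)| < |A* : B|` for `B < A*`. -/
theorem lt [Finite H] [Finite M] (h : Star M Q A) {B : Subgroup H} (hB : B < A) :
    (cv M (A : Set H)).relIndex (cv M (B : Set H)) < B.relIndex A := by
  have h1 : fo M B < fo M A := by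
    refine lt_of_le_of_ne (h.max B (hB.le.trans h.le)) fun h2 => ?_
    exact absurd (h.min B (hB.le.trans h.le) h2) (not_le_of_gt hB)
  have h3 : B.relIndex A * Nat.card B = Nat.card A := by
    rw [← Subgroup.card_mul_index (B.subgroupOf A), mul_comm]
    congr 1
    exact (Nat.card_congr (subgroupOfEquivOfLe hB.le).toEquiv).symm
  have h4le : cv M (A : Set H) ≤ cv M (B : Set H) := cv_anti (SetLike.coe_subset_coe.2 hB.le)
  have h4 : (cv M (A : Set H)).relIndex (cv M (B : Set H)) * Nat.card (cv M (A : Set H)) =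
      Nat.card (cv M (B : Set H)) := by
    rw [← Subgroup.card_mul_index ((cv M (A : Set H)).subgroupOf (cv M (B : Set H))), mul_comm]
    congr 1
    exact (Nat.card_congr (subgroupOfEquivOfLe h4le).toEquiv).symm
  unfold fo at h1
  rw [← h3, ← h4] at h1
  have h5 : Nat.card B * Nat.card (cv M (A : Set H)) * (cv M (A : Set H)).relIndex (cv M (B : Set H)) <
      Nat.card B * Nat.card (cv M (A : Set H)) * B.relIndex A := by
    calc _ = Nat.card B * ((cv M (A : Set H)).relIndex (cv M (B : Set H)) * Nat.card (cv M (A : Set H))) := by ring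
      _ < _ := h1
      _ = _ := by ring
  exact Nat.lt_of_mul_lt_mul_left h5

end Star

/-! ### Minimal parabolics -/

variable (M) in
/-- `⟨C_M(T)^P⟩` -/
def mp (T P : Subgroup H) : Subgroup M := closure {m | ∃ p ∈ P, ∃ v ∈ cv M (T : Set H), m = p • v}

theorem le_mp (T P : Subgroup H) : cv M (T : Set H) ≤ mp M T P := fun v hv =>
  subset_closure ⟨1, P.one_mem, v, hv, (one_smul _ _).symm⟩

theorem smul_mem_mp {T P : Subgroup H} {p : H} (hp : p ∈ P) {m : M} (hm : m ∈ mp M T P) : p • m ∈ mp M T P := by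
  have h1 : mp M T P ≤ (mp M T P).comap (MulDistribMulAction.toMonoidHom M p) := by
    rw [mp, closure_le]
    rintro _ ⟨q, hq, v, hv, rfl⟩
    refine subset_closure ⟨p * q, P.mul_mem hp hq, v, hv, ?_⟩
    rw [mul_smul]
    rfl
  exact h1 hm

variable (M) in
/-- the elements fixing `⟨C_M(T)^P⟩` -/
def fx (T P : Subgroup H) : Subgroup H where
  carrier := {x | ∀ m ∈ mp M T P, x • m = m}
  one_mem' := fun m _ => one_smul _ m
  mul_mem' := fun {x y} hx hy m hm => by rw [mul_smul, hy m hm, hx m hm]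
  inv_mem' := fun {x} hx m hm => by rw [inv_smul_eq_iff, hx m hm]

theorem mem_fx {T P : Subgroup H} {x : H} : x ∈ fx M T P ↔ ∀ m ∈ mp M T P, x • m = m := Iff.rfl

theorem mem_fx_iff {T P : Subgroup H} {x : H} :
    x ∈ fx M T P ↔ ∀ p ∈ P, ∀ v ∈ cv M (T : Set H), x • p • v = p • v := by
  constructor
  · intro h p hp v hv
    exact h _ (subset_closure ⟨p, hp, v, hv, rfl⟩)
  · intro h
    have h1 : mp M T P ≤ cv M ({x} : Set H) := by
      rw [mp, closure_le]
      rintro _ ⟨p, hp, v, hv, rfl⟩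
      exact mem_cv_singleton.2 (h p hp v hv)
    exact fun m hm => mem_cv_singleton.1 (h1 hm)

theorem le_normalizer_fx (T P : Subgroup H) : P ≤ normalizer (fx M T P : Set H) := by
  have key : ∀ g ∈ P, ∀ x ∈ fx M T P, g * x * g⁻¹ ∈ fx M T P := by
    intro g hg x hx m hm
    rw [mul_smul, mul_smul, hx _ (smul_mem_mp (P.inv_mem hg) hm), smul_inv_smul]
  intro g hg
  rw [mem_normalizer_iff]
  intro x
  constructor
  · exact key g hg x
  · intro h
    have := key g⁻¹ (P.inv_mem hg) _ h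
    have h2 : g⁻¹ * (g * x * g⁻¹) * g⁻¹⁻¹ = x := by group
    rwa [h2] at this

/-- `⋂ T^p`, `p ∈ P` -/
def core (T P : Subgroup H) : Subgroup H where
  carrier := {x | ∀ p ∈ P, p⁻¹ * x * p ∈ T}
  one_mem' := fun p _ => by simp
  mul_mem' := fun {x y} hx hy p hp => by
    have : p⁻¹ * (x * y) * p = (p⁻¹ * x * p) * (p⁻¹ * y * p) := by group
    rw [this]
    exact T.mul_mem (hx p hp) (hy p hp)
  inv_mem' := fun {x} hx p hp => by
    have : p⁻¹ * x⁻¹ * p = (p⁻¹ * x * p)⁻¹ := by group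
    rw [this]
    exact T.inv_mem (hx p hp)

theorem mem_core {T P : Subgroup H} {x : H} : x ∈ core T P ↔ ∀ p ∈ P, p⁻¹ * x * p ∈ T := Iff.rfl

theorem core_le (T P : Subgroup H) : core T P ≤ T := fun x hx => by simpa using hx 1 P.one_mem

theorem core_le_fx (T P : Subgroup H) : core T P ≤ fx M T P := fun x hx => by
  rw [mem_fx_iff]
  intro p hp v hv
  have h1 : (p⁻¹ * x * p) • v = v := hv _ (hx p hp)
  rw [mul_smul, mul_smul, inv_smul_eq_iff] at h1
  exact h1

theorem conj_mem_core {T P : Subgroup H} {x g : H} (hx : x ∈ core T P) (hg : g ∈ P) : g * x * g⁻¹ ∈ core T P := by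
  intro p hp
  have := hx (g⁻¹ * p) (P.mul_mem (P.inv_mem hg) hp)
  have h2 : (g⁻¹ * p)⁻¹ * x * (g⁻¹ * p) = p⁻¹ * (g * x * g⁻¹) * p := by group
  rwa [h2] at this

theorem le_core_of_normal {T P N : Subgroup H} (hN : N ≤ T) (hn : P ≤ normalizer (N : Set H)) : N ≤ core T P := by
  intro x hx p hp
  have h1 := (mem_normalizer_iff.1 (hn (P.inv_mem hp)) x).1 hx
  rw [inv_inv] at h1
  exact hN h1

variable (M) in
/-- `P` moves `C_M(T)` -/
def Moves (T P : Subgroup H) : Prop := ∃ p ∈ P, ∃ v ∈ cv M (T : Set H), p • v ≠ v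

/-- `C_T(⟨C_M(T)^P⟩) ≤ O₂(P)` for a minimal parabolic moving `C_M(T)`. -/
theorem fx_inf_le [Finite H] {T P : Subgroup H} (hT : IsPGroup 2 T) (hTs : ¬ 2 ∣ T.relIndex P) (hP : IsMinPar T P)
    (hm : Moves M T P) : fx M T P ⊓ T ≤ core T P := by
  set K : Subgroup H := fx M T P ⊓ P with hK
  have hKn : P ≤ normalizer (K : Set H) := by
    intro g hg
    have h1 := le_normalizer_fx (M := M) T P hg
    rw [mem_normalizer_iff] at h1 ⊢
    intro x
    constructor
    · rintro ⟨hx, hx'⟩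
      exact ⟨(h1 x).1 hx, P.mul_mem (P.mul_mem hg hx') (P.inv_mem hg)⟩
    · rintro ⟨hx, hx'⟩
      refine ⟨(h1 x).2 hx, ?_⟩
      have h2 : g⁻¹ * (g * x * g⁻¹) * g = x := by group
      rw [← h2]
      exact P.mul_mem (P.mul_mem (P.inv_mem hg) hx') hg
  have hTK : T ⊓ K = fx M T P ⊓ T := by
    apply le_antisymm
    · exact fun x hx => ⟨hx.2.1, hx.1⟩
    · exact fun x hx => ⟨hx.2, hx.1, hP.le hx.2⟩
  have hfr := MinSimple.Basic.frattini hP.le hT hTs hKn
  rw [hTK] at hfr
  set N : Subgroup H := P ⊓ normalizer ((fx M T P ⊓ T : Subgroup H) : Set H) with hN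
  have hTN : T ≤ N := by
    refine le_inf hP.le ?_
    intro t ht
    have h1 := le_normalizer_fx (M := M) T P (hP.le ht)
    rw [mem_normalizer_iff] at h1 ⊢
    intro x
    constructor
    · rintro ⟨hx, hx'⟩
      exact ⟨(h1 x).1 hx, T.mul_mem (T.mul_mem ht hx') (T.inv_mem ht)⟩
    · rintro ⟨hx, hx'⟩
      refine ⟨(h1 x).2 hx, ?_⟩
      have h2 : t⁻¹ * (t * x * t⁻¹) * t = x := by group
      rw [← h2]
      exact T.mul_mem (T.mul_mem (T.inv_mem ht) hx') ht
  obtain ⟨P₀, hP₀, hmax⟩ := hP.exists_max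
  by_cases hNP : N = P
  · have h1 : P ≤ N := hNP.ge
    exact le_core_of_normal inf_le_right (h1.trans inf_le_right)
  exfalso
  have hN0 : N ≤ P₀ := hmax N hTN (lt_of_le_of_ne inf_le_left hNP)
  by_cases hKT : K ⊔ T = P
  · obtain ⟨p, hp, v, hv, hne⟩ := hm
    apply hne
    have h1 : K ⊔ T ≤ MulAction.stabilizer H v := sup_le
      (fun x hx => MulAction.mem_stabilizer_iff.2 (hx.1 v (le_mp T P hv)))
      (fun x hx => MulAction.mem_stabilizer_iff.2 (hv x hx))
    rw [hKT] at h1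
    exact MulAction.mem_stabilizer_iff.1 (h1 hp)
  · have h1 : K ⊔ T ≤ P₀ := hmax _ le_sup_right (lt_of_le_of_ne (sup_le inf_le_right hP.le) hKT)
    exact absurd (hfr.trans (sup_le (le_sup_left.trans h1) hN0)) (not_le_of_gt hP₀)

variable (M) in
/-- THE INPUT (the K-free FF theorem): an elementary abelian subgroup of `T` is not an over-offender on
`⟨C_M(T)^P⟩`. -/
def FFIn (T P : Subgroup H) : Prop :=
  ∀ B ≤ T, (∀ b ∈ B, b * b = 1) → (fx M T P).relIndex B ≤ (cv M (B : Set H)).relIndex (mp M T P)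

theorem relIndex_ne {G : Type*} [Group G] [Finite G] (A B : Subgroup G) : A.relIndex B ≠ 0 :=
  Subgroup.index_ne_zero_of_finite (H := A.subgroupOf B)

/-- **`A* ≤ O₂(P)`** for the minimal parabolics over `T ≥ A*` moving `C_M(T)`. -/
theorem Star.le_core [Finite H] [Finite M] {Q A : Subgroup H} (h : Star M Q A) (hQ : ∀ q ∈ Q, q * q = 1)
    {T P : Subgroup H} (hT : IsPGroup 2 T) (hTs : ¬ 2 ∣ T.relIndex P) (hP : IsMinPar T P) (hm : Moves M T P)
    (hff : FFIn M T P) (hAT : A ≤ T) : A ≤ core T P := by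
  by_contra hcon
  have hlt : A ⊓ core T P < A := lt_of_le_of_ne inf_le_left fun h1 => hcon (inf_eq_left.1 h1)
  have h1 := h.lt hlt
  -- the kernel on `M_P`
  have h2 : fx M T P ⊓ A = A ⊓ core T P := by
    apply le_antisymm
    · exact le_inf inf_le_right fun x hx => fx_inf_le (M := M) hT hTs hP hm ⟨hx.1, hAT hx.2⟩
    · exact le_inf (inf_le_right.trans (core_le_fx T P)) inf_le_left
  have h3 := hff A hAT fun a ha => hQ a (h.le ha)
  have h4 : (fx M T P).relIndex A = (A ⊓ core T P).relIndex A := by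
    rw [← h2, Subgroup.inf_relIndex_right]
  have h5 : mp M T P ≤ cv M ((A ⊓ core T P : Subgroup H) : Set H) := by
    intro m hm' x hx
    exact core_le_fx (M := M) T P hx.2 m hm'
  have h6 : (cv M (A : Set H)).relIndex (mp M T P) ≤
      (cv M (A : Set H)).relIndex (cv M ((A ⊓ core T P : Subgroup H) : Set H)) :=
    Subgroup.relIndex_le_of_le_right h5 (relIndex_ne _ _)
  rw [h4] at h3
  omega

/-! ### The group generated by the minimal parabolics moving `C_M(T)` -/

variable (M) in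
/-- `X_T` -/
def xt (T : Subgroup H) : Subgroup H := ⨆ P ∈ {P : Subgroup H | IsMinPar T P ∧ Moves M T P}, P

/-- conjugation of the data -/
def cj (g : H) (A : Subgroup H) : Subgroup H := A.map (MulAut.conj g).toMonoidHom

theorem mem_cj {g : H} {A : Subgroup H} {x : H} : x ∈ cj g A ↔ g⁻¹ * x * g ∈ A := by
  constructor
  · rintro ⟨a, ha, rfl⟩
    have : g⁻¹ * (MulAut.conj g).toMonoidHom a * g = a := by
      change g⁻¹ * (g * a * g⁻¹) * g = a
      group
    rw [this]
    exact ha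
  · intro h
    refine ⟨_, h, ?_⟩
    change g * (g⁻¹ * x * g) * g⁻¹ = x
    group

theorem cj_cj (g h : H) (A : Subgroup H) : cj g (cj h A) = cj (g * h) A := by
  ext x
  rw [mem_cj, mem_cj, mem_cj]
  have : h⁻¹ * (g⁻¹ * x * g) * h = (g * h)⁻¹ * x * (g * h) := by group
  rw [this]

theorem cj_one (A : Subgroup H) : cj 1 A = A := by
  ext x
  rw [mem_cj]
  simp

theorem cj_mono {g : H} {A B : Subgroup H} (h : A ≤ B) : cj g A ≤ cj g B := Subgroup.map_mono h

theorem cj_le_iff {g : H} {A B : Subgroup H} : cj g A ≤ B ↔ A ≤ cj g⁻¹ B := by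
  constructor
  · intro h
    have := cj_mono (g := g⁻¹) h
    rwa [cj_cj, inv_mul_cancel, cj_one] at this
  · intro h
    have := cj_mono (g := g) h
    rwa [cj_cj, mul_inv_cancel, cj_one] at this

theorem cj_lt_iff {g : H} {A B : Subgroup H} : cj g A < B ↔ A < cj g⁻¹ B := by
  rw [lt_iff_le_not_ge, lt_iff_le_not_ge, cj_le_iff, cj_le_iff, inv_inv]

theorem normalizer_cj (g : H) (A : Subgroup H) : normalizer (cj g A : Set H) = cj g (normalizer (A : Set H)) := by
  ext x
  rw [mem_cj, mem_normalizer_iff, mem_normalizer_iff]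
  constructor
  · intro h y
    have h1 := h (g * y * g⁻¹)
    rw [mem_cj, mem_cj] at h1
    have e1 : g⁻¹ * (g * y * g⁻¹) * g = y := by group
    have e2 : g⁻¹ * (x * (g * y * g⁻¹) * x⁻¹) * g = g⁻¹ * x * g * y * (g⁻¹ * x * g)⁻¹ := by group
    rwa [e1, e2] at h1
  · intro h y
    have h1 := h (g⁻¹ * y * g)
    rw [mem_cj, mem_cj]
    have e2 : g⁻¹ * x * g * (g⁻¹ * y * g) * (g⁻¹ * x * g)⁻¹ = g⁻¹ * (x * y * x⁻¹) * g := by group
    rwa [e2] at h1

theorem isMinPar_cj {T P : Subgroup H} (g : H) (h : IsMinPar T P) : IsMinPar (cj g T) (cj g P) where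
  le := cj_mono h.le
  not_le := by
    rw [normalizer_cj, cj_le_iff, cj_cj, inv_mul_cancel, cj_one]
    exact h.not_le
  exists_max := by
    obtain ⟨N, hN, hmax⟩ := h.exists_max
    refine ⟨cj g N, ?_, ?_⟩
    · rw [cj_lt_iff, cj_cj, inv_mul_cancel, cj_one]
      exact hN
    · intro K hK hKP
      have h1 := hmax (cj g⁻¹ K) (by rw [← cj_le_iff]; exact hK) (by
        rw [cj_lt_iff, inv_inv]
        exact hKP)
      rwa [cj_le_iff, inv_inv] at h1

theorem cv_cj (g : H) (A : Subgroup H) {v : M} : v ∈ cv M (cj g A : Set H) ↔ g⁻¹ • v ∈ cv M (A : Set H) := by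
  constructor
  · intro h a ha
    have h1 := h (g * a * g⁻¹) (mem_cj.2 (by
      have : g⁻¹ * (g * a * g⁻¹) * g = a := by group
      rw [this]
      exact ha))
    rw [mul_smul, mul_smul] at h1
    rw [eq_inv_smul_iff]
    exact h1
  · intro h x hx
    have h1 := h _ (mem_cj.1 hx)
    rw [mul_smul, mul_smul, smul_inv_smul, smul_left_cancel_iff] at h1
    exact h1

theorem moves_cj {T P : Subgroup H} (g : H) (h : Moves M T P) : Moves M (cj g T) (cj g P) := by
  obtain ⟨p, hp, v, hv, hne⟩ := h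
  refine ⟨g * p * g⁻¹, mem_cj.2 (by
      have : g⁻¹ * (g * p * g⁻¹) * g = p := by group
      rw [this]
      exact hp), g • v, (cv_cj g T).2 (by rw [inv_smul_smul]; exact hv), ?_⟩
  rw [mul_smul, mul_smul, inv_smul_smul]
  intro h1
  exact hne (smul_left_cancel g h1)

/-- `T` is a Sylow 2-subgroup -/
def Syl (T : Subgroup H) : Prop := IsPGroup 2 T ∧ ¬ 2 ∣ T.index

theorem syl_cj {T : Subgroup H} (g : H) (h : Syl T) : Syl (cj g T) := by
  refine ⟨h.1.map _, ?_⟩
  have h1 : (cj g T).index = T.index := index_map_equiv T (MulAut.conj g)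
  rw [h1]
  exact h.2

theorem Syl.relIndex {T P : Subgroup H} (h : Syl T) (hP : T ≤ P) : ¬ 2 ∣ T.relIndex P := by
  have h1 : T.relIndex P ∣ T.index := by
    rw [← relIndex_mul_index hP]
    exact Dvd.intro _ rfl
  exact fun h2 => h.2 (h2.trans h1)

variable (M) in
/-- the input for all Sylow 2-subgroups -/
def FFAll (H : Type*) [Group H] [MulDistribMulAction H M] : Prop :=
  ∀ T P : Subgroup H, Syl T → IsMinPar T P → Moves M T P → FFIn M T P

/-- **`A* ≤ T^y` for all `y ∈ X_T`**, if the FF input holds for all Sylow 2-subgroups. -/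
theorem Star.le_conj [Finite H] [Finite M] {Q A : Subgroup H} (h : Star M Q A) (hQ : ∀ q ∈ Q, q * q = 1)
    (hff : FFAll M H) {T : Subgroup H} (hT : Syl T) (hAT : A ≤ T) {y : H} (hy : y ∈ xt M T) : A ≤ cj y T := by
  have hstep : ∀ T : Subgroup H, Syl T → A ≤ T → ∀ P, IsMinPar T P → Moves M T P → ∀ p ∈ P, A ≤ cj p T := by
    intro T hT hAT P hP hm p hp a ha
    exact mem_cj.2 (h.le_core hQ hT.1 (hT.relIndex hP.le) hP hm (hff T P hT hP hm) hAT ha p hp)
  have hxt : xt M T = closure {x | ∃ P, IsMinPar T P ∧ Moves M T P ∧ x ∈ P} := by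
    apply le_antisymm
    · exact iSup₂_le fun P hP x hx => subset_closure ⟨P, hP.1, hP.2, hx⟩
    · rw [closure_le]
      rintro x ⟨P, h1, h2, hx⟩
      exact (le_iSup₂_of_le P ⟨h1, h2⟩ le_rfl : P ≤ xt M T) hx
  have hgen : ∀ x z : H, A ≤ cj x T → (∃ P, IsMinPar T P ∧ Moves M T P ∧ z ∈ P) → A ≤ cj (x * z) T := by
    rintro x z ih ⟨P, h1, h2, hzP⟩
    have h3 := hstep (cj x T) (syl_cj x hT) ih (cj x P) (isMinPar_cj x h1) (moves_cj x h2) (x * z * x⁻¹)
      (mem_cj.2 (by
        have : x⁻¹ * (x * z * x⁻¹) * x = z := by group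
        rw [this]
        exact hzP))
    rwa [cj_cj, inv_mul_cancel_right] at h3
  rw [hxt] at hy
  induction hy using closure_induction_right with
  | one => rw [cj_one]; exact hAT
  | mul_right x hx z hz ih => exact hgen x z ih hz
  | mul_inv_cancel x hx z hz ih =>
    obtain ⟨P, h1, h2, hzP⟩ := hz
    exact hgen x z⁻¹ ih ⟨P, h1, h2, P.inv_mem hzP⟩

/-- `A*` lies in the core of `X_T`. -/
theorem Star.le_core_xt [Finite H] [Finite M] {Q A : Subgroup H} (h : Star M Q A) (hQ : ∀ q ∈ Q, q * q = 1)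
    (hff : FFAll M H) {T : Subgroup H} (hT : Syl T) (hAT : A ≤ T) : A ≤ core T (xt M T) := fun _ ha _ hy =>
  mem_cj.1 (h.le_conj hQ hff hT hAT hy ha)

/-- `N_H(T)` normalises `X_T`. -/
theorem cj_xt {T : Subgroup H} {g : H} (hg : cj g T = T) : cj g (xt M T) ≤ xt M T := by
  have h1 : xt M T ≤ cj g⁻¹ (xt M T) := by
    refine iSup₂_le fun P hP => ?_
    rw [← cj_le_iff]
    have h2 : IsMinPar T (cj g P) := by
      have := isMinPar_cj g hP.1
      rwa [hg] at this
    have h3 : Moves M T (cj g P) := by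
      have := moves_cj (M := M) g hP.2
      rwa [hg] at this
    exact le_iSup₂_of_le (cj g P) ⟨h2, h3⟩ le_rfl
  exact cj_le_iff.2 h1

/-- **No over-offender**: if `⟨X_T, N_H(T)⟩ = H` for the Sylow 2-subgroups and `O₂(H) = 1`, then the elementary abelian
2-subgroups are not over-offenders. -/
theorem no_over [Finite H] [Finite M] (hff : FFAll M H)
    (hgen : ∀ T : Subgroup H, Syl T → xt M T ⊔ normalizer (T : Set H) = ⊤)
    (hcore : ∀ N : Subgroup H, N.Normal → IsPGroup 2 N → N = ⊥)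
    {Q : Subgroup H} (hQ : ∀ q ∈ Q, q * q = 1) : fo M Q ≤ Nat.card M := by
  by_contra hcon
  rw [not_le] at hcon
  have hab : ∀ a ∈ Q, ∀ b ∈ Q, a * b = b * a := by
    intro a ha b hb
    have h1 := hQ _ (Q.mul_mem ha hb)
    have h2 : a⁻¹ = a := inv_eq_of_mul_eq_one_right (hQ a ha)
    have h3 : b⁻¹ = b := inv_eq_of_mul_eq_one_right (hQ b hb)
    calc a * b = (a * b)⁻¹ := (inv_eq_of_mul_eq_one_right h1).symm
      _ = b⁻¹ * a⁻¹ := mul_inv_rev a b
      _ = b * a := by rw [h2, h3]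
  obtain ⟨A, hA⟩ := exists_min hab le_rfl hcon
  -- a Sylow 2-subgroup containing `A*`
  have h2 : IsPGroup 2 Q := by
    intro q
    exact ⟨1, by rw [pow_one, pow_two]; exact Subtype.ext (hQ q q.2)⟩
  have : Fact (Nat.Prime 2) := ⟨Nat.prime_two⟩
  obtain ⟨S, hS⟩ := h2.exists_le_sylow
  have hT : Syl (S : Subgroup H) := ⟨S.isPGroup', S.not_dvd_index⟩
  have h3 := hA.le_core_xt hQ hff hT (hA.le.trans hS)
  set T : Subgroup H := (S : Subgroup H) with hTdef
  -- the core of `X_T` is normal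
  have h4 : ∀ g : H, ∀ x ∈ core T (xt M T), g * x * g⁻¹ ∈ core T (xt M T) := by
    have h5 : xt M T ⊔ normalizer (T : Set H) ≤ normalizer (core T (xt M T) : Set H) := by
      have hle : ∀ g : H, (∀ x ∈ core T (xt M T), g * x * g⁻¹ ∈ core T (xt M T)) →
          g ∈ normalizer (core T (xt M T) : Set H) := by
        intro g hg
        have h6 : cj g (core T (xt M T)) ≤ core T (xt M T) := by
          rintro _ ⟨x, hx, rfl⟩
          exact hg x hx
        have h7 : cj g (core T (xt M T)) = core T (xt M T) := eq_of_le_of_card_ge h6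
          (Nat.card_congr ((core T (xt M T)).equivMapOfInjective _ (MulAut.conj g).injective).toEquiv).le
        rw [Subgroup.mem_normalizer_iff_map_conj_eq]
        exact h7
      refine sup_le (fun g hg => hle g fun x hx => conj_mem_core hx hg) (fun g hg => hle g fun x hx => ?_)
      have hgT : cj g T = T := by
        have := Subgroup.mem_normalizer_iff_map_conj_eq.1 hg
        exact this
      have hgT' : cj g⁻¹ T = T := by
        rw [← hgT, cj_cj, inv_mul_cancel, cj_one]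
        exact hgT.symm
      intro p hp
      have h8 : g⁻¹ * p * g ∈ xt M T := by
        have h9 := cj_xt (M := M) hgT' ((mem_cj (g := g⁻¹) (x := g⁻¹ * p * g)).2 (by
          have : g⁻¹⁻¹ * (g⁻¹ * p * g) * g⁻¹ = p := by group
          rw [this]
          exact hp))
        exact h9
      have h10 := hx _ h8
      have h11 : g * ((g⁻¹ * p * g)⁻¹ * x * (g⁻¹ * p * g)) * g⁻¹ ∈ T := by
        rw [← hgT]
        exact mem_cj.2 (by
          have : g⁻¹ * (g * ((g⁻¹ * p * g)⁻¹ * x * (g⁻¹ * p * g)) * g⁻¹) * g =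
            (g⁻¹ * p * g)⁻¹ * x * (g⁻¹ * p * g) := by group
          rw [this]
          exact h10)
      have h12 : g * ((g⁻¹ * p * g)⁻¹ * x * (g⁻¹ * p * g)) * g⁻¹ = p⁻¹ * (g * x * g⁻¹) * p := by group
      rwa [h12] at h11
    rw [hgen T hT, top_le_iff] at h5
    intro g x hx
    have h6 : g ∈ normalizer (core T (xt M T) : Set H) := by rw [h5]; exact mem_top _
    exact (mem_normalizer_iff.1 h6 x).1 hx
  have h5 := hcore (core T (xt M T)) ⟨fun x hx g => h4 g x hx⟩ (hT.1.to_le (core_le _ _))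
  rw [h5, le_bot_iff] at h3
  exact hA.ne_bot h3

end Cfsg.Agent.Omega.NOThree.NoOver
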