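import Cfsg.Agent.Omega.VP

/-!
# The geometry of points and lines of NO-3S (V natural for `SL₂(s)`), abstract form

`X` the set of points, `L` the set of lines, `G` acts on both; `R x` the subgroup `x` (of order `s`), `V l` the
line subgroup, `W x = ⟨V l : l on x⟩`.  `t = |W_x : W_x ∩ W_y|` for two points `x ≠ y` of a line.

* `Geom` : the hypotheses (points are TI, (F1), (F2), transitivity on flags through `index`);
* `Walk`, `Crit` : walks, critical pairs;
* `Crit.star` : (STAR);
* `Geom.low` : (T1): `W_x ≤ O₂(G_y)` at distance `< n`, and at distance `n` if they commute;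
* `Geom.low_line` : `W_x ≤ O₂(C_G(V_l))`.
-/

set_option autoImplicit false

namespace Cfsg.Agent.Omega.NOThree.Pts

open Subgroup Cfsg Cfsg.Agent.ZN Cfsg.Agent.MinSimple.VModule

variable {G X L : Type*} [Group G] [MulAction G X] [MulAction G L]

/-- The hypotheses on points and lines. -/
structure Geom (inc : X → L → Prop) (R W : X → Subgroup G) (V : L → Subgroup G) (s t : ℕ) : Prop where
  inc_smul : ∀ (g : G) (x : X) (l : L), inc x l → inc (g • x) (g • l)
  R_smul : ∀ (g : G) (x : X), ∀ a ∈ R x, g * a * g⁻¹ ∈ R (g • x)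
  W_smul : ∀ (g : G) (x : X), ∀ a ∈ W x, g * a * g⁻¹ ∈ W (g • x)
  V_smul : ∀ (g : G) (l : L), ∀ a ∈ V l, g * a * g⁻¹ ∈ V (g • l)
  two_le : 2 ≤ s
  card : ∀ x, Nat.card (R x) = s
  /-- points are TI -/
  ti : ∀ x y, ∀ a ∈ R x, a ∈ R y → a ≠ 1 → x = y
  R_le : ∀ x l, inc x l → R x ≤ V l
  V_le : ∀ x l, inc x l → V l ≤ W x
  W_le : ∀ x (A : Subgroup G), (∀ l, inc x l → V l ≤ A) → W x ≤ A
  /-- a line is the union of its points -/
  cover : ∀ l, ∀ a ∈ V l, ∃ x, inc x l ∧ a ∈ R x
  exists_line : ∀ x, ∃ l, inc x l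
  comm : ∀ x, ∀ a ∈ W x, ∀ b ∈ W x, a * b = b * a
  sq : ∀ x, ∀ a ∈ W x, a * a = 1
  F1 : ∀ x y z l, inc x l → inc y l → inc z l → x ≠ y → x ≠ z → W x ⊓ W y = W x ⊓ W z
  index : ∀ x y l, inc x l → inc y l → x ≠ y → (W x ⊓ W y).relIndex (W x) = t
  F2 : ∀ x y z l, inc x l → inc y l → inc z l → x ≠ y → ∀ u ∈ W x, u ∈ W y → u ∉ V l →
    ∃ g : G, g * u = u * g ∧ g • l = l ∧ g • x = z

variable {inc : X → L → Prop} {R W : X → Subgroup G} {V : L → Subgroup G} {s t n : ℕ}

/-- Walks of length `k`. -/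
inductive Walk (inc : X → L → Prop) : ℕ → X → X → Prop
  | zero (x : X) : Walk inc 0 x x
  | step {k : ℕ} {x y z : X} {l : L} (h : Walk inc k x y) (hy : inc y l) (hz : inc z l) : Walk inc (k + 1) x z

/-- `W_x` and `W_y` commute. -/
def Com (W : X → Subgroup G) (x y : X) : Prop := ∀ a ∈ W x, ∀ b ∈ W y, a * b = b * a

/-- A critical pair. -/
structure Crit (inc : X → L → Prop) (W : X → Subgroup G) (n : ℕ) (x y : X) : Prop where
  walk : Walk inc n x y
  ne : ¬ Com W x y
  min : ∀ k < n, ∀ a b, Walk inc k a b → Com W a b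

theorem cg (g : G) {a b : G} (h : a = b) : g * a * g⁻¹ = g * b * g⁻¹ := by rw [h]

theorem Com.symm {x y : X} (h : Com W x y) : Com W y x := fun a ha b hb => (h b hb a ha).symm

namespace Walk

theorem trans {k m : ℕ} {x y z : X} (h : Walk inc k x y) (h' : Walk inc m y z) : Walk inc (k + m) x z := by
  induction h' with
  | zero => exact h
  | step _ hy hz ih => exact (ih h).step hy hz

theorem one {x y : X} {l : L} (hx : inc x l) (hy : inc y l) : Walk inc 1 x y := (zero x).step hx hy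

theorem symm {k : ℕ} {x y : X} (h : Walk inc k x y) : Walk inc k y x := by
  induction h with
  | zero x => exact zero x
  | step _ hy hz ih =>
    have := (one hz hy).trans ih
    rwa [add_comm] at this

theorem cons {k : ℕ} {x y z : X} {l : L} (hx : inc x l) (hy : inc y l) (h : Walk inc k y z) :
    Walk inc (k + 1) x z := by
  have := (one hx hy).trans h
  rwa [add_comm] at this

end Walk

theorem Walk.smul (D : Geom inc R W V s t) (g : G) {k : ℕ} {x y : X} (h : Walk inc k x y) :
    Walk inc k (g • x) (g • y) := by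
  induction h with
  | zero x => exact .zero _
  | step _ hy hz ih => exact ih.step (D.inc_smul g _ _ hy) (D.inc_smul g _ _ hz)

theorem Walk.mono (D : Geom inc R W V s t) {k m : ℕ} {x y : X} (h : Walk inc k x y) (hkm : k ≤ m) :
    Walk inc m x y := by
  induction m, hkm using Nat.le_induction with
  | base => exact h
  | succ m _ ih =>
    obtain ⟨l, hl⟩ := D.exists_line y
    exact ih.step hl hl

namespace Geom

variable (D : Geom inc R W V s t)
include D

theorem R_le_W (x : X) : R x ≤ W x := by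
  obtain ⟨l, hl⟩ := D.exists_line x
  exact (D.R_le x l hl).trans (D.V_le x l hl)

theorem exists_ne (x : X) : ∃ a ∈ R x, a ≠ 1 := by
  by_contra hcon
  push Not at hcon
  have h1 : R x = ⊥ := by
    rw [eq_bot_iff]
    intro a ha
    exact mem_bot.2 (hcon a ha)
  have h2 := D.card x
  rw [h1, Subgroup.card_bot] at h2
  have := D.two_le
  omega

theorem R_smul_iff (g : G) {x : X} {a : G} : a ∈ R (g • x) ↔ g⁻¹ * a * g ∈ R x := by
  constructor
  · intro h
    have := D.R_smul g⁻¹ _ a h
    rwa [inv_smul_smul, inv_inv] at this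
  · intro h
    have := D.R_smul g _ _ h
    have e : g * (g⁻¹ * a * g) * g⁻¹ = a := by group
    rwa [e] at this

theorem W_smul_iff (g : G) {x : X} {a : G} : a ∈ W (g • x) ↔ g⁻¹ * a * g ∈ W x := by
  constructor
  · intro h
    have := D.W_smul g⁻¹ _ a h
    rwa [inv_smul_smul, inv_inv] at this
  · intro h
    have := D.W_smul g _ _ h
    have e : g * (g⁻¹ * a * g) * g⁻¹ = a := by group
    rwa [e] at this

/-- An element commuting with `1 ≠ a ∈ R x` fixes `x`. -/
theorem fix {x : X} {a g : G} (ha : a ∈ R x) (ha1 : a ≠ 1) (hg : g * a = a * g) : g • x = x := by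
  refine D.ti _ _ a ?_ ha ha1
  rw [D.R_smul_iff]
  have e : g⁻¹ * a * g = a := by
    rw [mul_assoc, ← hg]; group
  rwa [e]

theorem fix_of_centralizes {x : X} {g : G} (hg : ∀ a ∈ R x, g * a = a * g) : g • x = x := by
  obtain ⟨a, ha, ha1⟩ := D.exists_ne x
  exact D.fix ha ha1 (hg a ha)

theorem norm_W {x : X} {g : G} (hg : g • x = x) {a : G} (ha : a ∈ W x) : g * a * g⁻¹ ∈ W x := by
  have := D.W_smul g x a ha
  rwa [hg] at this

theorem norm_R {x : X} {g : G} (hg : g • x = x) {a : G} (ha : a ∈ R x) : g * a * g⁻¹ ∈ R x := by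
  have := D.R_smul g x a ha
  rwa [hg] at this

theorem W_fix {x : X} {g : G} (hg : g ∈ W x) : g • x = x :=
  D.fix_of_centralizes fun a ha => D.comm x g hg a (D.R_le_W x ha)

theorem com_self (x : X) : Com W x x := fun a ha b hb => D.comm x a ha b hb

theorem com_smul (g : G) {x y : X} (h : Com W x y) : Com W (g • x) (g • y) := by
  intro a ha b hb
  rw [D.W_smul_iff] at ha hb
  have h1 := cg g (h _ ha _ hb)
  have e1 : g * (g⁻¹ * a * g * (g⁻¹ * b * g)) * g⁻¹ = a * b := by group
  have e2 : g * (g⁻¹ * b * g * (g⁻¹ * a * g)) * g⁻¹ = b * a := by group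
  rwa [e1, e2] at h1

theorem com_smul_iff (g : G) {x y : X} : Com W (g • x) (g • y) ↔ Com W x y := by
  refine ⟨fun h => ?_, D.com_smul g⟩
  have := D.com_smul g⁻¹ h
  rwa [inv_smul_smul, inv_smul_smul] at this

theorem W_isPGroup (x : X) : IsPGroup 2 (W x) := by
  intro a
  exact ⟨1, Subtype.ext (by
    have := D.sq x a a.2
    rw [pow_one, pow_two]
    exact this)⟩

theorem inv_eq {x : X} {a : G} (ha : a ∈ W x) : a⁻¹ = a :=
  inv_eq_of_mul_eq_one_left (D.sq x a ha)

/-- An element of `V_l` not in `R_x` lies in another point of `l`. -/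
theorem exists_pt {l : L} {u : G} (hu : u ∈ V l) : ∃ y, inc y l ∧ u ∈ R y := D.cover l u hu

/-- `I_l ≤ W_z` for all points `z` of `l`. -/
theorem inf_le {x y z : X} {l : L} (hx : inc x l) (hy : inc y l) (hz : inc z l) (hxy : x ≠ y) :
    W x ⊓ W y ≤ W z := by
  by_cases h : x = z
  · subst h; exact inf_le_left
  · rw [D.F1 x y z l hx hy hz hxy h]; exact inf_le_right

end Geom

/-! ### Critical pairs -/

namespace Crit

variable {x y : X}

theorem symm (h : Crit inc W n x y) : Crit inc W n y x :=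
  ⟨h.walk.symm, fun h1 => h.ne h1.symm, h.min⟩

theorem smul (D : Geom inc R W V s t) (h : Crit inc W n x y) (g : G) : Crit inc W n (g • x) (g • y) :=
  ⟨h.walk.smul D g, fun h1 => h.ne ((D.com_smul_iff g).1 h1), h.min⟩

/-- no shorter walk -/
theorem not_walk (h : Crit inc W n x y) {k : ℕ} (hk : k < n) : ¬ Walk inc k x y :=
  fun h1 => h.ne (h.min k hk _ _ h1)

/-- The last line `l` of the walk: `r`, `y` on `l`, `r` at distance `n - 1` from `x`. -/
theorem last (h : Crit inc W n x y) (hn : 1 ≤ n) : ∃ r l, Walk inc (n - 1) x r ∧ inc r l ∧ inc y l := by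
  obtain ⟨m, rfl⟩ : ∃ m, n = m + 1 := ⟨n - 1, by omega⟩
  have hw := h.walk
  rcases hw with _ | @⟨_, _, r, _, l, hr, hrl, hyl⟩
  exact ⟨r, l, hr, hrl, hyl⟩

theorem ne_last (h : Crit inc W n x y) (hn : 1 ≤ n) {r : X} (hr : Walk inc (n - 1) x r) : r ≠ y := by
  rintro rfl
  exact h.not_walk (by omega) hr

/-- `W_x` commutes with `W_r`. -/
theorem com_last (h : Crit inc W n x y) (hn : 1 ≤ n) {r : X} (hr : Walk inc (n - 1) x r) : Com W x r :=
  h.min _ (by omega) _ _ hr

/-- `W_x` fixes the point `y`. -/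
theorem fix (D : Geom inc R W V s t) (h : Crit inc W n x y) (hn : 1 ≤ n) {a : G} (ha : a ∈ W x) : a • y = y := by
  obtain ⟨r, l, hr, hrl, hyl⟩ := h.last hn
  exact D.fix_of_centralizes fun b hb => h.com_last hn hr a ha b (D.V_le r l hrl (D.R_le y l hyl hb))

theorem comm_R (D : Geom inc R W V s t) (h : Crit inc W n x y) (hn : 1 ≤ n) {a b : G} (ha : a ∈ W x)
    (hb : b ∈ R y) : a * b = b * a := by
  obtain ⟨r, l, hr, hrl, hyl⟩ := h.last hn
  exact h.com_last hn hr a ha b (D.V_le r l hrl (D.R_le y l hyl hb))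

/-- **(STAR)** -/
theorem star (D : Geom inc R W V s t) (h : Crit inc W n x y) (hn : 2 ≤ n) {r : X} {l : L}
    (hr : Walk inc (n - 1) x r) (hrl : inc r l) (hyl : inc y l) {u : G} (hu : u ∈ R x) (huy : u ∈ W y)
    (hur : u ∈ W r) : u = 1 := by
  by_contra hu1
  have hne := h.ne_last (by omega) hr
  by_cases huV : u ∈ V l
  · obtain ⟨z, hz, huz⟩ := D.cover l u huV
    obtain rfl := D.ti _ _ u hu huz hu1
    exact h.not_walk (by omega) (Walk.one hz hyl)
  · obtain ⟨g, hg, -, hgy⟩ := D.F2 y r r l hyl hrl hrl hne.symm u huy hur huV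
    have hgx := D.fix hu hu1 hg
    apply h.ne
    rw [← D.com_smul_iff g, hgx, hgy]
    exact h.com_last (by omega) hr

end Crit

/-! ### `O₂` of the point stabilisers -/

theorem mem_normalizer_of_conj {N : Subgroup G} {H : Subgroup G} (h : ∀ g ∈ H, ∀ a ∈ N, g * a * g⁻¹ ∈ N) :
    H ≤ normalizer (N : Set G) := by
  intro g hg
  rw [mem_normalizer_iff]
  refine fun a => ⟨h g hg a, fun ha => ?_⟩
  have := h g⁻¹ (H.inv_mem hg) _ ha
  have e : g⁻¹ * (g * a * g⁻¹) * g⁻¹⁻¹ = a := by group
  rwa [e] at this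

theorem conj_mem_of_le_normalizer {N H : Subgroup G} (h : H ≤ normalizer (N : Set G)) {g a : G} (hg : g ∈ H)
    (ha : a ∈ N) : g * a * g⁻¹ ∈ N := (mem_normalizer_iff.1 (h hg) a).1 ha

namespace Geom

variable (D : Geom inc R W V s t)
include D

theorem W_le_stab (x : X) : W x ≤ MulAction.stabilizer G x := fun _ ha => D.W_fix ha

theorem W_le_o2 (x : X) : W x ≤ o2 (MulAction.stabilizer G x) :=
  le_o2 (D.W_le_stab x) (D.W_isPGroup x) (mem_normalizer_of_conj fun _ hg _ ha => D.norm_W hg ha)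

theorem cent_V_le {x : X} {l : L} (hx : inc x l) : centralizer (V l : Set G) ≤ MulAction.stabilizer G x :=
  fun _ hg => D.fix_of_centralizes fun a ha => (mem_centralizer_iff.1 hg a (D.R_le x l hx ha)).symm

theorem cent_W_le (x : X) : centralizer (W x : Set G) ≤ MulAction.stabilizer G x :=
  fun _ hg => D.fix_of_centralizes fun a ha => (mem_centralizer_iff.1 hg a (D.R_le_W x ha)).symm

/-- A subgroup of `O₂(G_x)` centralising `V_l`, `l` on `x`, lies in `O₂(C_G(V_l))`. -/
theorem le_o2_cent {x : X} {l : L} (hx : inc x l) {A : Subgroup G} (hA : A ≤ o2 (MulAction.stabilizer G x))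
    (hA' : A ≤ centralizer (V l : Set G)) : A ≤ o2 (centralizer (V l : Set G)) := by
  have h1 : centralizer (V l : Set G) ≤
      normalizer ((o2 (MulAction.stabilizer G x) ⊓ centralizer (V l : Set G) : Subgroup G) : Set G) := by
    refine mem_normalizer_of_conj fun g hg a ha => ⟨?_, ?_⟩
    · exact conj_mem_of_le_normalizer (le_normalizer_o2 _) (D.cent_V_le hx hg) ha.1
    · exact Subgroup.mul_mem _ (Subgroup.mul_mem _ hg ha.2) (Subgroup.inv_mem _ hg)
  exact (le_inf hA hA').trans (le_o2 inf_le_right ((o2_isPGroup _).to_le inf_le_left) h1)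

/-- A subgroup of `O₂(C_G(V_l))` centralising `W_x`, `l` on `x`, lies in `O₂(G_x)`. -/
theorem le_o2_stab {x : X} {l : L} (hx : inc x l) {A : Subgroup G} (hA : A ≤ o2 (centralizer (V l : Set G)))
    (hA' : A ≤ centralizer (W x : Set G)) : A ≤ o2 (MulAction.stabilizer G x) := by
  have hWV : centralizer (W x : Set G) ≤ centralizer (V l : Set G) := centralizer_le (D.V_le x l hx)
  have h1 : centralizer (W x : Set G) ≤
      normalizer ((o2 (centralizer (V l : Set G)) ⊓ centralizer (W x : Set G) : Subgroup G) : Set G) := by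
    refine mem_normalizer_of_conj fun g hg a ha => ⟨?_, ?_⟩
    · exact conj_mem_of_le_normalizer (le_normalizer_o2 _) (hWV hg) ha.1
    · exact Subgroup.mul_mem _ (Subgroup.mul_mem _ hg ha.2) (Subgroup.inv_mem _ hg)
  have h2 : A ≤ o2 (centralizer (W x : Set G)) :=
    (le_inf hA hA').trans (le_o2 inf_le_right ((o2_isPGroup _).to_le inf_le_left) h1)
  refine h2.trans (le_o2 ((o2_le _).trans (D.cent_W_le x)) (o2_isPGroup _) ?_)
  refine le_trans ?_ (Omega.normalizer_le_normalizer_o2' _)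
  refine mem_normalizer_of_conj fun g hg a ha => ?_
  rw [mem_centralizer_iff] at ha ⊢
  intro w hw
  have hw' : g⁻¹ * w * g ∈ W x := by
    have := D.norm_W (g := g⁻¹) (by
      have hg' : g • x = x := hg
      rw [inv_smul_eq_iff, hg']) hw
    rwa [inv_inv] at this
  have h3 := cg g (ha _ hw')
  have e1 : g * (g⁻¹ * w * g * a) * g⁻¹ = w * (g * a * g⁻¹) := by group
  have e2 : g * (a * (g⁻¹ * w * g)) * g⁻¹ = g * a * g⁻¹ * w := by group
  rwa [e1, e2] at h3

theorem le_cent_of_com {x y : X} (h : Com W x y) : W x ≤ centralizer (W y : Set G) := fun a ha =>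
  mem_centralizer_iff.2 fun b hb => (h a ha b hb).symm

/-- **(T1)** `W_x ≤ O₂(G_y)` if `x`, `y` are at distance `≤ n` and `W_x`, `W_y` commute. -/
theorem low (hmin : ∀ k < n, ∀ a b, Walk inc k a b → Com W a b) {k : ℕ} {x y : X} (h : Walk inc k x y)
    (hk : k ≤ n) (hc : Com W x y) : W x ≤ o2 (MulAction.stabilizer G y) := by
  induction h with
  | zero x => exact D.W_le_o2 x
  | @step k x y z l h hy hz ih =>
    have hc' : Com W x y := hmin k (by omega) _ _ h
    have h1 := ih (by omega) hc'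
    have h2 := D.le_o2_cent hy h1 ((D.le_cent_of_com hc').trans (centralizer_le (D.V_le y l hy)))
    exact D.le_o2_stab hz h2 (D.le_cent_of_com hc)

/-- `W_x ≤ O₂(C_G(V_l))`, `l` on `y`. -/
theorem low_line (hmin : ∀ k < n, ∀ a b, Walk inc k a b → Com W a b) {k : ℕ} {x y : X} (h : Walk inc k x y)
    (hk : k ≤ n) (hc : Com W x y) {l : L} (hl : inc y l) : W x ≤ o2 (centralizer (V l : Set G)) :=
  D.le_o2_cent hl (D.low hmin h hk hc) ((D.le_cent_of_com hc).trans (centralizer_le (D.V_le y l hl)))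

end Geom

end Cfsg.Agent.Omega.NOThree.Pts
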