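import Cfsg.Agent.Omega.NOThree.Pts

/-!
# LEMMA (M) of NO-3S, `n ≥ 3`, all `s` (helper292 #13844, helper263 #12025 (1))

`(p, q)` critical, `r` the last point of the walk before `q`, `x ∼ p`, `f ∈ W_q` moves `x` and
`W_x ∩ W_{x^f} ≤ W_p` (`MDat`).

* `MDat.index_le` : `s t ≤ |W_x : C_{W_x}(f)|`;
* `MDat.alpha` : if `[W_x, W_r] ≠ 1` then `(x, r)` is critical of type I and `[W_x, W_r] ≤ W_x ∩ W_p`;
* `MDat.beta` : if `[W_x, W_r] = 1` and there are no over-offenders (`NoOver`), then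
  `C_{W_q}(W_x mod R_q) = W_q ∩ W_r`, `R_p ∩ W_q = 1` and `[W_q, W_x] ≤ W_r`;
* `exists_typeI` : (N).
-/

set_option autoImplicit false

namespace Cfsg.Agent.Omega.NOThree.LemmaM

open Subgroup Cfsg Cfsg.Agent.ZN Cfsg.Agent.MinSimple.VModule Cfsg.Agent.Omega.NOThree.Pts

variable {G X L : Type*} [Group G] [MulAction G X] [MulAction G L]
variable {inc : X → L → Prop} {R W : X → Subgroup G} {V : L → Subgroup G} {s t n : ℕ}

/-! ### Counting -/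

section count

/-- If `φ` is a homomorphism from `A` to `N` with kernel in `D`, then `|A : D| ≤ |N|`. -/
theorem relIndex_le_card {A D N : Subgroup G} [Finite N] (φ : G → G) (hN : ∀ a ∈ A, φ a ∈ N)
    (hmul : ∀ a ∈ A, ∀ b ∈ A, φ (a * b) = φ a * φ b) (hker : ∀ a ∈ A, φ a = 1 → a ∈ D) :
    D.relIndex A ≤ Nat.card N := by
  classical
  let f : A →* N := MonoidHom.mk' (fun a => ⟨φ a, hN a a.2⟩) (fun a b => Subtype.ext (hmul a a.2 b b.2))
  have h1 : f.ker ≤ D.subgroupOf A := by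
    intro a ha
    rw [mem_subgroupOf]
    exact hker a a.2 (congrArg Subtype.val (MonoidHom.mem_ker.1 ha))
  have h2 : f.ker.index ≤ Nat.card N := by
    rw [index_ker]
    exact Nat.card_le_card_of_injective _ Subtype.val_injective
  have h3 : f.ker.index ≠ 0 := by
    rw [index_ker]
    exact Nat.card_pos.ne'
  exact (Nat.le_of_dvd (Nat.pos_of_ne_zero h3) (index_dvd_of_le h1)).trans h2

/-- If `A ∩ D = 1`, `A ≤ B`, then `|A| ≤ |B : D|`. -/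
theorem card_le_relIndex [Finite G] {A B D : Subgroup G} (hAB : A ≤ B) (h : ∀ a ∈ A, a ∈ D → a = 1) :
    Nat.card A ≤ D.relIndex B := by
  have h1 : D.relIndex A = Nat.card A := by
    rw [← relIndex_bot_left, ← inf_relIndex_right]
    congr 1
    rw [eq_bot_iff]
    intro a ha
    exact mem_bot.2 (h a ha.2 ha.1)
  rw [← h1]
  exact relIndex_le_of_le_right hAB (index_ne_zero_of_finite)

theorem relIndex_ne_zero' [Finite G] (A B : Subgroup G) : A.relIndex B ≠ 0 := index_ne_zero_of_finite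

/-- `{a ∈ A : [a, B] ≤ N}` -/
def cm (A B N : Subgroup G) (h : ∀ a ∈ A, ∀ c ∈ N, a * c = c * a) : Subgroup G where
  carrier := {a | a ∈ A ∧ ∀ b ∈ B, a * b * a⁻¹ * b⁻¹ ∈ N}
  one_mem' := ⟨one_mem _, fun b _ => by simp⟩
  mul_mem' := by
    rintro a a' ⟨ha, h1⟩ ⟨ha', h2⟩
    refine ⟨mul_mem ha ha', fun b hb => ?_⟩
    have e : a * a' * b * (a * a')⁻¹ * b⁻¹ = (a * (a' * b * a'⁻¹ * b⁻¹) * a⁻¹) * (a * b * a⁻¹ * b⁻¹) := by group
    rw [e]
    refine mul_mem ?_ (h1 b hb)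
    rw [h a ha _ (h2 b hb), mul_inv_cancel_right]
    exact h2 b hb
  inv_mem' := by
    rintro a ⟨ha, h1⟩
    refine ⟨inv_mem ha, fun b hb => ?_⟩
    have e : a⁻¹ * b * a⁻¹⁻¹ * b⁻¹ = a⁻¹ * (a * b * a⁻¹ * b⁻¹)⁻¹ * a := by group
    rw [e]
    have h2 : (a * b * a⁻¹ * b⁻¹)⁻¹ ∈ N := inv_mem (h1 b hb)
    rw [h a⁻¹ (inv_mem ha) _ h2, inv_mul_cancel_right]
    exact h2

theorem mem_cm {A B N : Subgroup G} {h : ∀ a ∈ A, ∀ c ∈ N, a * c = c * a} {a : G} :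
    a ∈ cm A B N h ↔ a ∈ A ∧ ∀ b ∈ B, a * b * a⁻¹ * b⁻¹ ∈ N := Iff.rfl

end count

/-- **No over-offender**: for every line `l` on `q` and every elementary abelian `A ≤ O₂(C_G(V_l))` which
centralises `I_l` and acts quadratically on `W_q`: `|A : C_A(M_q)| ≤ |M_q : C_{M_q}(A)|`, `M_q = W_q/R_q`. -/
def NoOver (inc : X → L → Prop) (R W : X → Subgroup G) (V : L → Subgroup G) : Prop :=
  ∀ (q : X) (l : L), inc q l → ∀ A : Subgroup G, A ≤ o2 (centralizer (V l : Set G)) →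
    (∀ a ∈ A, ∀ b ∈ A, a * b = b * a) → (∀ a ∈ A, a * a = 1) →
    (∀ y, inc y l → y ≠ q → ∀ a ∈ A, ∀ u ∈ W q, u ∈ W y → a * u = u * a) →
    (∀ a ∈ A, ∀ b ∈ A, ∀ u ∈ W q, b * (a * u * a⁻¹ * u⁻¹) = (a * u * a⁻¹ * u⁻¹) * b) →
    ∀ N C : Subgroup G, (∀ a, a ∈ N ↔ a ∈ A ∧ ∀ u ∈ W q, a * u * a⁻¹ * u⁻¹ ∈ R q) →
      (∀ u, u ∈ C ↔ u ∈ W q ∧ ∀ a ∈ A, a * u * a⁻¹ * u⁻¹ ∈ R q) → N.relIndex A ≤ C.relIndex (W q)

/-- The data of LEMMA (M). -/
structure MDat (inc : X → L → Prop) (R W : X → Subgroup G) (V : L → Subgroup G) (s t n : ℕ)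
    (p q r x : X) (l m : L) (f : G) : Prop where
  D : Geom inc R W V s t
  three : 3 ≤ n
  crit : Crit inc W n p q
  walk : Walk inc (n - 1) p r
  rl : inc r l
  ql : inc q l
  xm : inc x m
  pm : inc p m
  f_mem : f ∈ W q
  fx : f • x ≠ x
  low : ∀ a ∈ W x, a ∈ W (f • x) → a ∈ W p

namespace MDat

variable {p q r x : X} {l m : L} {f : G} (h : MDat inc R W V s t n p q r x l m f)
include h

theorem fix_p {g : G} (hg : g ∈ W q) : g • p = p :=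
  h.crit.symm.fix h.D (by have := h.three; omega) hg

theorem ne : x ≠ p := by
  rintro rfl
  exact h.fx (h.fix_p h.f_mem)

/-- `W_x` and `W_{x^g}` commute, `g ∈ W_q`. -/
theorem com_x {g : G} (hg : g ∈ W q) : Com W x (g • x) := by
  have h1 : Walk inc 2 x (g • x) := by
    refine (Walk.one h.xm h.pm).step (l := g • m) ?_ (h.D.inc_smul g _ _ h.xm)
    have := h.D.inc_smul g _ _ h.pm
    rwa [h.fix_p hg] at this
  exact h.crit.min 2 (by have := h.three; omega) _ _ h1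

/-- `[w, g]` commutes with `W_x`. -/
theorem comm_comm {g w w' : G} (hg : g ∈ W q) (hw : w ∈ W x) (hw' : w' ∈ W x) :
    w' * (w * g * w⁻¹ * g⁻¹) = (w * g * w⁻¹ * g⁻¹) * w' := by
  have h1 : g * w⁻¹ * g⁻¹ ∈ W (g • x) := h.D.W_smul g x _ (inv_mem hw)
  have h2 := h.com_x hg w' hw' _ h1
  have h3 := h.D.comm x w' hw' w hw
  have e : w * g * w⁻¹ * g⁻¹ = w * (g * w⁻¹ * g⁻¹) := by group
  rw [e, ← mul_assoc, h3, mul_assoc, h2, ← mul_assoc]

/-- `w ↦ [w, g]` is a homomorphism on `W_x`. -/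
theorem comm_mul {g w w' : G} (hg : g ∈ W q) (hw : w ∈ W x) (hw' : w' ∈ W x) :
    w * w' * g * (w * w')⁻¹ * g⁻¹ = (w * g * w⁻¹ * g⁻¹) * (w' * g * w'⁻¹ * g⁻¹) := by
  have h1 := h.comm_comm hg hw' hw
  have e : w * w' * g * (w * w')⁻¹ * g⁻¹ = w * (w' * g * w'⁻¹ * g⁻¹) * w⁻¹ * (w * g * w⁻¹ * g⁻¹) := by group
  rw [e, h1, mul_inv_cancel_right]
  have h2 : (w' * g * w'⁻¹ * g⁻¹) * (g * w⁻¹ * g⁻¹) = (g * w⁻¹ * g⁻¹) * (w' * g * w'⁻¹ * g⁻¹) := by
    have h3 : g * w⁻¹ * g⁻¹ ∈ W (g • x) := h.D.W_smul g x _ (inv_mem hw)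
    have h4 : g * w'⁻¹ * g⁻¹ ∈ W (g • x) := h.D.W_smul g x _ (inv_mem hw')
    have h5 := h.com_x hg w' hw' _ h3
    have h6 := h.D.comm _ _ h4 _ h3
    have e2 : w' * g * w'⁻¹ * g⁻¹ = w' * (g * w'⁻¹ * g⁻¹) := by group
    rw [e2, mul_assoc, h6, ← mul_assoc, h5, mul_assoc]
  have e3 : w * g * w⁻¹ * g⁻¹ = w * (g * w⁻¹ * g⁻¹) := by group
  rw [e3, ← mul_assoc, ← h1, mul_assoc, h2, ← mul_assoc]

/-- `C_{W_x}(f) ≤ W_x ∩ W_p` -/
theorem cent_le {w : G} (hw : w ∈ W x) (hf : f * w = w * f) : w ∈ W p := by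
  refine h.low w hw ?_
  rw [h.D.W_smul_iff]
  have e : f⁻¹ * w * f = w := by rw [mul_assoc, ← hf]; group
  rwa [e]

theorem R_cent {a : G} (ha : a ∈ R x) (hf : f * a = a * f) : a = 1 := by
  by_contra ha1
  exact h.fx (h.D.fix ha ha1 hf)

theorem R_le : R x ≤ W x ⊓ W p :=
  le_inf (h.D.R_le_W x) ((h.D.R_le x m h.xm).trans (h.D.V_le p m h.pm))

/-- `s t ≤ |W_x : C_{W_x}(f)|` -/
theorem index_le [Finite G] (D₀ : Subgroup G) (hD : ∀ a, a ∈ D₀ ↔ a ∈ W x ∧ f * a = a * f) :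
    s * t ≤ D₀.relIndex (W x) := by
  have h1 : D₀ ≤ W x ⊓ W p := fun a ha =>
    ⟨((hD a).1 ha).1, h.cent_le ((hD a).1 ha).1 ((hD a).1 ha).2⟩
  rw [← relIndex_mul_relIndex D₀ (W x ⊓ W p) (W x) h1 inf_le_left, h.D.index x p m h.xm h.pm h.ne]
  refine Nat.mul_le_mul_right _ ?_
  rw [← h.D.card x]
  exact card_le_relIndex h.R_le fun a ha ha' => h.R_cent ha ((hD a).1 ha').2

/-! ### (α) -/

theorem walk' : Walk inc n x r := by
  have h1 := Walk.cons h.xm h.pm h.walk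
  have h3 := h.three
  rwa [Nat.sub_add_cancel (by omega)] at h1

/-- `f` centralises `W_r`. -/
theorem f_comm {a : G} (ha : a ∈ W r) : f * a = a * f :=
  h.crit.min 1 (by have := h.three; omega) _ _ (Walk.one h.ql h.rl) f h.f_mem a ha

/-- `W_x ∩ W_r ≤ W_p` -/
theorem inf_le {a : G} (hx : a ∈ W x) (hr : a ∈ W r) : a ∈ W p := h.cent_le hx (h.f_comm hr)

/-- `R_x ∩ W_r = 1` -/
theorem R_inf {a : G} (hx : a ∈ R x) (hr : a ∈ W r) : a = 1 := h.R_cent hx (h.f_comm hr)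

/-- `R_r ∩ W_x = 1` -/
theorem R_inf' {u : G} (hu : u ∈ R r) (hx : u ∈ W x) (hne : ¬ Com W x r) : u = 1 := by
  by_contra hu1
  have h3 := h.three
  have hp := h.inf_le hx (h.D.R_le_W r hu)
  by_cases huV : u ∈ V m
  · obtain ⟨z, hz, huz⟩ := h.D.cover m u huV
    obtain rfl := h.D.ti _ _ u hu huz hu1
    have h1 : Walk inc 2 p q := (Walk.one h.pm hz).step h.rl h.ql
    exact h.crit.not_walk (by omega) h1
  · obtain ⟨g, hg, -, hgx⟩ := h.D.F2 x p p m h.xm h.pm h.pm h.ne u hx hp huV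
    have hgr := h.D.fix hu hu1 hg
    apply hne
    rw [← h.D.com_smul_iff g, hgx, hgr]
    exact h.crit.com_last (by omega) h.walk

/-- **(α)** -/
theorem alpha (hne : ¬ Com W x r) : Crit inc W n x r ∧ (∀ u ∈ R x, u ∈ W r → u = 1) ∧
    (∀ u ∈ R r, u ∈ W x → u = 1) ∧ (∀ a ∈ W x, ∀ b ∈ W r, a * b * a⁻¹ * b⁻¹ ∈ W x ⊓ W p) := by
  have h3 := h.three
  have hc : Crit inc W n x r := ⟨h.walk', hne, h.crit.min⟩
  refine ⟨hc, fun u hu hr => h.R_inf hu hr, fun u hu hx => h.R_inf' hu hx hne, fun a ha b hb => ?_⟩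
  have h1 : a * b * a⁻¹ * b⁻¹ ∈ W r :=
    mul_mem (h.D.norm_W (hc.fix h.D (by omega) ha) hb) (inv_mem hb)
  have h2 : a * b * a⁻¹ * b⁻¹ ∈ W x := by
    have e : a * b * a⁻¹ * b⁻¹ = a * (b * a⁻¹ * b⁻¹) := by group
    rw [e]
    exact mul_mem ha (h.D.norm_W (hc.symm.fix h.D (by omega) hb) (inv_mem ha))
  exact ⟨h2, h.inf_le h2 h1⟩

/-! ### (β) -/

variable (hc : Com W x r)
include hc

omit hc in
theorem R_le_r : R q ≤ W r := (h.D.R_le q l h.ql).trans (h.D.V_le r l h.rl)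

theorem fix_q {w : G} (hw : w ∈ W x) : w • q = q :=
  h.D.fix_of_centralizes fun a ha => hc w hw a (h.R_le_r ha)

theorem comm_mem {w u : G} (hw : w ∈ W x) (hu : u ∈ W q) : w * u * w⁻¹ * u⁻¹ ∈ W q :=
  mul_mem (h.D.norm_W (h.fix_q hc hw) hu) (inv_mem hu)

/-- `t ≤ |W_x : {w ∈ W_x : [w, W_q] ≤ R_q}|` -/
theorem t_le [Finite G] (N : Subgroup G)
    (hN : ∀ a, a ∈ N ↔ a ∈ W x ∧ ∀ u ∈ W q, a * u * a⁻¹ * u⁻¹ ∈ R q) : t ≤ N.relIndex (W x) := by
  have hcR : ∀ a ∈ W x, ∀ c ∈ R q, a * c = c * a := fun a ha c hcc => hc a ha c (h.R_le_r hcc)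
  have hz : (zpowers f) ≤ W q := by
    rw [zpowers_le]; exact h.f_mem
  -- `D₁ = {w : [w, f] ∈ R_q}`
  let D₁ : Subgroup G :=
    { carrier := {a | a ∈ W x ∧ a * f * a⁻¹ * f⁻¹ ∈ R q}
      one_mem' := ⟨one_mem _, by simp⟩
      mul_mem' := by
        rintro a b ⟨ha, ha'⟩ ⟨hb, hb'⟩
        refine ⟨mul_mem ha hb, ?_⟩
        rw [h.comm_mul h.f_mem ha hb]
        exact mul_mem ha' hb'
      inv_mem' := by
        rintro a ⟨ha, ha'⟩
        refine ⟨inv_mem ha, ?_⟩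
        have h1 := h.comm_mul h.f_mem ha (inv_mem ha)
        rw [mul_inv_cancel] at h1
        have e : (1 : G) * f * 1⁻¹ * f⁻¹ = 1 := by group
        rw [e] at h1
        rw [← inv_eq_of_mul_eq_one_right h1.symm]
        exact inv_mem ha' }
  let D₀ : Subgroup G := W x ⊓ centralizer {f}
  have hD₀ : ∀ a, a ∈ D₀ ↔ a ∈ W x ∧ f * a = a * f := by
    intro a
    rw [mem_inf, mem_centralizer_singleton_iff]
    exact ⟨fun h => ⟨h.1, h.2.symm⟩, fun h => ⟨h.1, h.2.symm⟩⟩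
  have h1 := h.index_le D₀ hD₀
  have h01 : D₀ ≤ D₁ := by
    intro a ha
    obtain ⟨ha1, ha2⟩ := (hD₀ a).1 ha
    refine ⟨ha1, ?_⟩
    have e : a * f * a⁻¹ * f⁻¹ = 1 := by rw [← ha2]; group
    rw [e]; exact one_mem _
  have hN1 : N ≤ D₁ := fun a ha => ⟨((hN a).1 ha).1, ((hN a).1 ha).2 f h.f_mem⟩
  have h2 : D₀.relIndex D₁ ≤ s := by
    rw [← h.D.card q]
    refine relIndex_le_card (fun a => a * f * a⁻¹ * f⁻¹) (fun a ha => ha.2)
      (fun a ha b hb => h.comm_mul h.f_mem ha.1 hb.1) ?_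
    intro a ha hfa
    rw [hD₀]
    refine ⟨ha.1, ?_⟩
    have h5 : a * f * a⁻¹ * f⁻¹ = 1 := hfa
    have h6 : a * f * a⁻¹ = f := mul_inv_eq_one.1 h5
    calc f * a = a * f * a⁻¹ * a := by rw [h6]
      _ = a * f := by group
  have h3 : D₀.relIndex D₁ * D₁.relIndex (W x) = D₀.relIndex (W x) :=
    relIndex_mul_relIndex _ _ _ h01 fun a ha => ha.1
  have h4 : t ≤ D₁.relIndex (W x) := by
    have hs : 0 < s := by have := h.D.two_le; omega
    have h5 : s * t ≤ s * D₁.relIndex (W x) := by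
      calc s * t ≤ D₀.relIndex (W x) := h1
        _ = D₀.relIndex D₁ * D₁.relIndex (W x) := h3.symm
        _ ≤ s * D₁.relIndex (W x) := Nat.mul_le_mul_right _ h2
    exact Nat.le_of_mul_le_mul_left h5 hs
  exact h4.trans (relIndex_le_of_le_left hN1 (relIndex_ne_zero' _ _))

/-- **(β)** -/
theorem beta [Finite G] (hNO : NoOver inc R W V) :
    (∀ u ∈ W q, (∀ a ∈ W x, a * u * a⁻¹ * u⁻¹ ∈ R q) → u ∈ W r) ∧
    (∀ u ∈ R p, u ∈ W q → u = 1) ∧ (∀ a ∈ W x, ∀ u ∈ W q, a * u * a⁻¹ * u⁻¹ ∈ W r) := by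
  have h3 := h.three
  have hcR : ∀ a ∈ W x, ∀ c ∈ R q, a * c = c * a := fun a ha c hcc => hc a ha c (h.R_le_r hcc)
  have hrq : r ≠ q := h.crit.ne_last (by omega) h.walk
  set N := cm (W x) (W q) (R q) hcR with hNdef
  have hqR : ∀ a ∈ W q, ∀ c ∈ R q, a * c = c * a := fun a ha c hcc => h.D.comm q a ha c (h.D.R_le_W q hcc)
  have hC : ∀ u, u ∈ cm (W q) (W x) (R q) hqR ↔ u ∈ W q ∧ ∀ a ∈ W x, a * u * a⁻¹ * u⁻¹ ∈ R q := by
    intro u
    rw [mem_cm]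
    refine and_congr_right fun hu => forall₂_congr fun a ha => ?_
    have e : a * u * a⁻¹ * u⁻¹ = (u * a * u⁻¹ * a⁻¹)⁻¹ := by group
    rw [e, inv_mem_iff]
  set C := cm (W q) (W x) (R q) hqR with hCdef
  have h1 : t ≤ N.relIndex (W x) := h.t_le hc N fun a => mem_cm
  have hle : W q ⊓ W r ≤ C := by
    intro u hu
    rw [hC]
    refine ⟨hu.1, fun a ha => ?_⟩
    have e : a * u * a⁻¹ * u⁻¹ = 1 := by rw [hc a ha u hu.2]; group
    rw [e]; exact one_mem _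
  have h2 : (W q ⊓ W r).relIndex (W q) = t := h.D.index q r l h.ql h.rl hrq.symm
  have hA : W x ≤ o2 (centralizer (V l : Set G)) :=
    h.D.low_line h.crit.min h.walk' le_rfl hc h.rl
  have h4 : N.relIndex (W x) ≤ C.relIndex (W q) := by
    refine hNO q l h.ql (W x) hA (h.D.comm x) (h.D.sq x) ?_ ?_ N C (fun a => mem_cm) hC
    · intro y hy hyq a ha u hu huy
      exact hc a ha u (h.D.inf_le h.ql hy h.rl hyq.symm ⟨hu, huy⟩)
    · intro a ha b hb u hu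
      exact h.comm_comm hu ha hb
  have h5 : (W q ⊓ W r).relIndex C = 1 := by
    have h6 := relIndex_mul_relIndex (W q ⊓ W r) C (W q) hle fun u hu => hu.1
    rw [h2] at h6
    have h7 : t ≤ C.relIndex (W q) := h1.trans h4
    have h8 := relIndex_ne_zero' C (W q)
    have h9 := relIndex_ne_zero' (W q ⊓ W r) C
    have h10 : (W q ⊓ W r).relIndex C * C.relIndex (W q) ≤ 1 * C.relIndex (W q) := by
      rw [one_mul, h6]; exact h7
    have h11 := Nat.le_of_mul_le_mul_right h10 (Nat.pos_of_ne_zero h8)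
    omega
  have h6 : C ≤ W q ⊓ W r := relIndex_eq_one.1 h5
  have hi : ∀ u ∈ W q, (∀ a ∈ W x, a * u * a⁻¹ * u⁻¹ ∈ R q) → u ∈ W r :=
    fun u hu hu' => (h6 ((hC u).2 ⟨hu, hu'⟩)).2
  have hxp : Com W x p := h.crit.min 1 (by omega) _ _ (Walk.one h.xm h.pm)
  refine ⟨hi, fun u hu huq => ?_, fun a ha u hu => ?_⟩
  · refine h.crit.star h.D (by omega) h.walk h.rl h.ql hu huq (hi u huq fun a ha => ?_)
    have e : a * u * a⁻¹ * u⁻¹ = 1 := by rw [hxp a ha u (h.D.R_le_W p hu)]; group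
    rw [e]; exact one_mem _
  · refine hi _ (h.comm_mem hc ha hu) fun b hb => ?_
    have e : b * (a * u * a⁻¹ * u⁻¹) * b⁻¹ * (a * u * a⁻¹ * u⁻¹)⁻¹ = 1 := by
      rw [h.comm_comm hu ha hb]; group
    rw [e]; exact one_mem _

end MDat

/-! ### (N) -/

/-- Hypothesis (D): for every critical pair `(p, q)` and every `x ∼ p` not centralised by `W_q` some `f ∈ W_q`
moves `x` and `W_x ∩ W_{x^f} ≤ W_p`. -/
def HasD (inc : X → L → Prop) (R W : X → Subgroup G) (n : ℕ) : Prop :=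
  ∀ (p q : X), Crit inc W n p q → ∀ (x : X) (m : L), inc x m → inc p m →
    (∃ f ∈ W q, ∃ a ∈ R x, f * a ≠ a * f) → ∃ f ∈ W q, f • x ≠ x ∧ ∀ a ∈ W x, a ∈ W (f • x) → a ∈ W p

/-- A critical pair of type I with `[W_p, W_q] ≤ I_l`, `l` the first line of the walk. -/
structure TypeI (inc : X → L → Prop) (R W : X → Subgroup G) (n : ℕ) (p x q : X) (l : L) : Prop where
  crit : Crit inc W n p q
  pl : inc p l
  xl : inc x l
  ne : x ≠ p
  walk : Walk inc (n - 1) x q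
  inf : ∀ u ∈ R p, u ∈ W q → u = 1
  inf' : ∀ u ∈ R q, u ∈ W p → u = 1
  le : ∀ a ∈ W p, ∀ b ∈ W q, a * b * a⁻¹ * b⁻¹ ∈ W p ⊓ W x

/-- Some point `x` of a line on `p` is not centralised by `W_q`. -/
theorem exists_moved (D : Geom inc R W V s t) {p q : X} (h : ¬ Com W p q) :
    ∃ x m, inc x m ∧ inc p m ∧ ∃ f ∈ W q, ∃ a ∈ R x, f * a ≠ a * f := by
  by_contra hcon
  push Not at hcon
  apply h
  have h1 : W p ≤ centralizer (W q : Set G) := by
    refine D.W_le p _ fun m hm a ha => ?_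
    obtain ⟨x, hx, hax⟩ := D.cover m a ha
    rw [mem_centralizer_iff]
    intro f hf
    exact hcon x m hx hm f hf a hax
  intro a ha b hb
  exact (mem_centralizer_iff.1 (h1 ha) b hb).symm

/-- **(N)** -/
theorem exists_typeI [Finite G] (D : Geom inc R W V s t) (hn : 3 ≤ n) (hNO : NoOver inc R W V)
    (hD : HasD inc R W n) {p q : X} (hcr : Crit inc W n p q) :
    ∃ p x q l, TypeI inc R W n p x q l := by
  by_cases hα : ∃ p q r x l m f, MDat inc R W V s t n p q r x l m f ∧ ¬ Com W x r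
  · obtain ⟨p, q, r, x, l, m, f, h, hne⟩ := hα
    obtain ⟨h1, h2, h3, h4⟩ := h.alpha hne
    exact ⟨x, p, r, m, h1, h.xm, h.pm, h.ne.symm, h.walk, h2, h3, h4⟩
  push Not at hα
  have key : ∀ p q r l, Crit inc W n p q → Walk inc (n - 1) p r → inc r l → inc q l →
      (∀ u ∈ R p, u ∈ W q → u = 1) ∧ ∀ a ∈ W p, ∀ b ∈ W q, a * b * a⁻¹ * b⁻¹ ∈ W r := by
    intro p q r l hc hr hrl hql
    have hex : ∀ x m, inc x m → inc p m → (∃ f ∈ W q, ∃ a ∈ R x, f * a ≠ a * f) →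
        (∀ u ∈ R p, u ∈ W q → u = 1) ∧ (∀ a ∈ W x, ∀ u ∈ W q, a * u * a⁻¹ * u⁻¹ ∈ W r) := by
      intro x m hx hm hmv
      obtain ⟨f, hf, hfx, hlow⟩ := hD p q hc x m hx hm hmv
      have hM : MDat inc R W V s t n p q r x l m f :=
        ⟨D, hn, hc, hr, hrl, hql, hx, hm, hf, hfx, hlow⟩
      exact (hM.beta (hα _ _ _ _ _ _ _ hM) hNO).2
    constructor
    · obtain ⟨x, m, hx, hm, hmv⟩ := exists_moved D hc.ne
      exact (hex x m hx hm hmv).1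
    · have hcR : ∀ a ∈ W p, ∀ c ∈ W r, a * c = c * a := fun a ha c hcc =>
        hc.com_last (by omega) hr a ha c hcc
      have h1 : W p ≤ cm (W p) (W q) (W r) hcR := by
        refine D.W_le p _ fun m hm a ha => ?_
        refine mem_cm.2 ⟨D.V_le p m hm ha, fun b hb => ?_⟩
        obtain ⟨x, hx, hax⟩ := D.cover m a ha
        by_cases hmv : ∃ f ∈ W q, ∃ a ∈ R x, f * a ≠ a * f
        · exact (hex x m hx hm hmv).2 a (D.R_le_W x hax) b hb
        · push Not at hmv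
          have e : a * b * a⁻¹ * b⁻¹ = 1 := by rw [← hmv b hb a hax]; group
          rw [e]; exact one_mem _
      exact fun a ha => (mem_cm.1 (h1 ha)).2
  obtain ⟨r, l, hr, hrl, hql⟩ := hcr.last (by omega)
  obtain ⟨r', l', hr', hrl', hql'⟩ := hcr.symm.last (by omega)
  obtain ⟨h1, h2⟩ := key p q r l hcr hr hrl hql
  obtain ⟨h3, -⟩ := key q p r' l' hcr.symm hr' hrl' hql'
  refine ⟨q, r, p, l, hcr.symm, hql, hrl, hcr.ne_last (by omega) hr, hr.symm, h3, h1, fun a ha b hb => ?_⟩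
  have h4 := h2 b hb a ha
  have e : a * b * a⁻¹ * b⁻¹ = (b * a * b⁻¹ * a⁻¹)⁻¹ := by group
  refine ⟨?_, ?_⟩
  · have e2 : a * b * a⁻¹ * b⁻¹ = a * (b * a⁻¹ * b⁻¹) := by group
    rw [e2]
    exact mul_mem ha (D.norm_W (hcr.fix D (by omega) hb) (inv_mem ha))
  · rw [e]
    exact (W r).inv_mem h4

end Cfsg.Agent.Omega.NOThree.LemmaM
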