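import Cfsg.Agent.Omega.NO3S.TwoFar.Inst
import Cfsg.Agent.Omega.NO3S.Pt.LemD

/-!
# NO-3S, TwoFar (`|V_P| = 4`, `n ≥ 3`): section 1 of #16267 (helper292), K-free

* `lemM` : LEMMA (M) (`LemmaM.MDat.index_le`, `alpha`, `beta`) in the language of `Pt.Fr`;
* `no_le` : (NO) for a critical pair;
* `Exact V p q` : exact pairs; `Goal V n p x q` : goal pairs, `x` the second point of the path;
* `exact_of_typeI` : (1.1);
* `exact_or_goal` : (1.2).
-/

set_option autoImplicit false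

namespace Cfsg.Agent.Omega.NOThree.SecOne

open Subgroup Cfsg Cfsg.Agent.ZN Cfsg.Agent.MinSimple.Geo Cfsg.Agent.Omega.CaseL Cfsg.Agent.Omega.NO3S.TwoOne
open Cfsg.Agent.Omega.NO3S.Pt Cfsg.Agent.Omega.NO3S.TwoFar
open Cfsg.Agent.Omega.NOThree.LemmaM (NoOver MDat cm mem_cm)

universe u

variable {G : Type u} [Group G] {T V : Subgroup G} {z p q r x f : G} {n : ℕ}

/-- A goal pair `(p, q)`: critical of type I, `[W_p, W_q] ≤ W_p ∩ W_x`, `x` the second point of a geodesic. -/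
structure Goal (V : Subgroup G) (n : ℕ) (p x q : G) : Prop where
  crit : Cr V n p q
  col : Col V p x
  ne : x ≠ p
  path : Pth V (n - 1) x q
  not_mem : p ∉ ws V q
  not_mem' : q ∉ ws V p
  le : ∀ a ∈ ws V p, ∀ b ∈ ws V q, a * b * a⁻¹ * b⁻¹ ∈ ws V p ⊓ ws V x

/-- `C_{W_p}(W_q)` -/
def ee (V : Subgroup G) (p q : G) : Subgroup G := ws V p ⊓ centralizer (ws V q : Set G)

theorem mem_ee {a : G} : a ∈ ee V p q ↔ a ∈ ws V p ∧ ∀ b ∈ ws V q, a * b = b * a := by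
  unfold ee
  rw [mem_inf, mem_centralizer_iff]
  exact and_congr_right fun _ => ⟨fun h b hb => (h b hb).symm, fun h b hb => (h b hb).symm⟩

theorem ee_le : ee V p q ≤ ws V p := inf_le_left

/-- An exact pair. -/
structure Exact (V : Subgroup G) (p q : G) : Prop where
  /-- `W_q ∩ K_p = C_{W_q}(W_p)` -/
  kq : ∀ b ∈ ws V q, b ∈ kq V p → b ∈ ee V q p
  /-- `W_p ∩ K_q = C_{W_p}(W_q)` -/
  kq' : ∀ w ∈ ws V p, w ∈ MinSimple.Geo.kq V q → w ∈ ee V p q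
  /-- `C_{W_p}(W_q mod p) = C_{W_p}(W_q)` -/
  cent : ∀ w ∈ ws V p, (∀ b ∈ ws V q, b * w * b⁻¹ * w⁻¹ ∈ zpowers p) → w ∈ ee V p q
  cent' : ∀ b ∈ ws V q, (∀ w ∈ ws V p, w * b * w⁻¹ * b⁻¹ ∈ zpowers q) → b ∈ ee V q p
  card : (ee V p q).relIndex (ws V p) = (ee V q p).relIndex (ws V q)

namespace Exact

theorem symm (h : Exact V p q) : Exact V q p := ⟨h.kq', h.kq, h.cent', h.cent, h.card.symm⟩

end Exact

theorem goal_typeI (h : Goal V n p x q) : p ∉ ws V q ∧ q ∉ ws V p := ⟨h.not_mem, h.not_mem'⟩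

/-- `a * b = b * a` from `[a, b] = 1` -/
theorem comm_of_comm_eq_one {a b : G} (h : a * b * a⁻¹ * b⁻¹ = 1) : a * b = b * a := by
  calc a * b = (a * b * a⁻¹ * b⁻¹) * (b * a) := by group
    _ = b * a := by rw [h, one_mul]

theorem comm_eq_one {a b : G} (h : a * b = b * a) : a * b * a⁻¹ * b⁻¹ = 1 := by
  rw [h]; group

theorem comm_inv_eq (a b : G) : a * b * a⁻¹ * b⁻¹ = (b * a * b⁻¹ * a⁻¹)⁻¹ := by group

/-- elements of `K_x`: one condition is enough -/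
theorem mem_kq_of {c : G} (hc : c ∈ centralizer ({x} : Set G))
    (hw : ∀ w ∈ ws V x, c * w * c⁻¹ * w⁻¹ ∈ zpowers x) : c ∈ kq V x := by
  refine ⟨hc, hw, fun w hw' => ?_⟩
  have hn := centralizer_le_normalizer_ws V x hc
  have h1 : c⁻¹ * w * c ∈ ws V x := by
    have := (mem_normalizer_iff''.1 hn w).1 hw'
    exact this
  have h2 := hw _ h1
  have e : c * (c⁻¹ * w * c) * c⁻¹ * (c⁻¹ * w * c)⁻¹ = w * (c⁻¹ * w * c)⁻¹ := by group
  rw [e] at h2
  have h3 : c⁻¹ * w * c * w⁻¹ = (w * (c⁻¹ * w * c)⁻¹)⁻¹ := by group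
  rw [h3]
  exact inv_mem h2

/-- **LEMMA (M)** in the language of `Pt.Fr`. -/
theorem mdat [Finite G] (h : Fr T V z) (hn : 3 ≤ n) (hc : Cr V n p q) (hr : Pth V (n - 1) p r)
    (hrq : Col V r q) (hx : Col V x p) (hf : f ∈ ws V q) (hfx : f * x * f⁻¹ ≠ x)
    (hD : ws V x ⊓ ws V (f * x * f⁻¹) ≤ ws V p) :
    ∃ l m : NO3S.TwoFar.LT V, MDat (inc (V := V)) RR WS VL 2 ((ii V).relIndex (ws V z)) n
      ⟨p, hc.path.left⟩ ⟨q, hc.path.right⟩ ⟨r, hr.right⟩ ⟨x, hx.left⟩ l m f := by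
  obtain ⟨g, hg1, hg2, -, -⟩ := id hrq
  obtain ⟨k, hk1, hk2, -, -⟩ := id hx
  refine ⟨ln V g, ln V k, ⟨geom h, hn, crit_iff.2 hc, walk_of_pth hr _ _, hg1, hg2, hk1, hk2, hf, ?_, ?_⟩⟩
  · intro e
    exact hfx (congrArg Subtype.val e)
  · exact fun a ha ha' => hD ⟨ha, ha'⟩

/-- **LEMMA (M)** in the language of `Pt.Fr`: `x ∼ p`, `f ∈ W_q` moves `x`, and (D). -/
theorem lemM [Finite G] (h : Fr T V z) (hn : 3 ≤ n) (hNO : NoOver (inc (V := V)) RR WS VL)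
    (hc : Cr V n p q) (hr : Pth V (n - 1) p r) (hrq : Col V r q) (hx : Col V x p) (hf : f ∈ ws V q)
    (hfx : f * x * f⁻¹ ≠ x) (hD : ws V x ⊓ ws V (f * x * f⁻¹) ≤ ws V p) :
    2 * (ii V).relIndex (ws V z) ≤ (ws V x ⊓ centralizer ({f} : Set G)).relIndex (ws V x) ∧
      (Goal V n x p r ∨
        (Com V x r ∧ p ∉ ws V q ∧ ∀ a ∈ ws V x, ∀ u ∈ ws V q, a * u * a⁻¹ * u⁻¹ ∈ ws V r)) := by
  obtain ⟨l, m, hM⟩ := mdat h hn hc hr hrq hx hf hfx hD
  refine ⟨hM.index_le _ fun a => ?_, ?_⟩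
  · rw [mem_inf, mem_centralizer_singleton_iff]
    exact ⟨fun h => ⟨h.1, h.2.symm⟩, fun h => ⟨h.1, h.2.symm⟩⟩
  · by_cases hxr : Com V x r
    · right
      obtain ⟨-, h2, h3⟩ := hM.beta hxr hNO
      refine ⟨hxr, fun hp => ?_, h3⟩
      exact hc.path.left.ne_one (h2 p ((mem_RR h).2 (Or.inr rfl)) hp)
    · left
      obtain ⟨h1, h2, h3, h4⟩ := hM.alpha hxr
      refine ⟨crit_iff.1 h1, hx, fun e => ?_, hr, fun hx' => ?_, fun hr' => ?_, h4⟩
      · exact hM.ne (PT.ext e.symm)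
      · exact hx.ne_one (h2 x ((mem_RR h).2 (Or.inr rfl)) hx')
      · exact hr.right.ne_one (h3 r ((mem_RR h).2 (Or.inr rfl)) hr')

/-- **(NO)** for a critical pair `(p, q)`, `W_p` acting on `W_q`. -/
theorem no_le [Finite G] (h : Fr T V z) (hn : 3 ≤ n) (hNO : NoOver (inc (V := V)) RR WS VL)
    (hc : Cr V n p q) {N C : Subgroup G}
    (hN : ∀ a, a ∈ N ↔ a ∈ ws V p ∧ ∀ u ∈ ws V q, a * u * a⁻¹ * u⁻¹ ∈ zpowers q)
    (hC : ∀ u, u ∈ C ↔ u ∈ ws V q ∧ ∀ a ∈ ws V p, a * u * a⁻¹ * u⁻¹ ∈ zpowers q) :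
    N.relIndex (ws V p) ≤ C.relIndex (ws V q) := by
  obtain ⟨m, rfl⟩ : ∃ m, n = m + 1 := ⟨n - 1, by omega⟩
  obtain ⟨y', g, h1, h2, h3, h4, h5, h6, h7⟩ := hc.last h
  have hcom : Com V p y' := hc.min m (by omega) p y' h1
  refine hNO ⟨q, hc.path.right⟩ (ln V g) h3 (ws V p) h7 (h.ws_comm hc.path.left) (h.ws_sq hc.path.left) ?_ ?_
    N C hN hC
  · intro y hy hyq a ha u hu huy
    have hy' : y.1 ∈ cj g V := hy
    have h8 : u ∈ ii (cj g V) := h.mem_ii_cj h3 h5 hy' y.ne_one (fun e => hyq (PT.ext e)) hu huy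
    exact hcom a ha u (h.ii_cj_le h2 h4 h8)
  · intro a ha b hb u hu
    have h8 : a * u * a⁻¹ * u⁻¹ ∈ ws V p := hc.comm_mem_left h ha hu
    exact h.ws_comm hc.path.left b hb _ h8

theorem cent_zpowers {A : Subgroup G} {c : G} (h : ∀ a ∈ A, a * c = c * a) :
    ∀ a ∈ A, ∀ d ∈ zpowers c, a * d = d * a := by
  intro a ha d hd
  obtain ⟨k, rfl⟩ := mem_zpowers_iff.1 hd
  exact ((show Commute a c from h a ha).zpow_right k).eq

/-- (NO) in the form `|W_p : W_p ∩ K_q| ≤ |W_q : C_{W_q}(W_p mod q)|`. -/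
theorem no_le' [Finite G] (h : Fr T V z) (hn : 3 ≤ n) (hNO : NoOver (inc (V := V)) RR WS VL)
    (hc : Cr V n p q) :
    ∃ N C : Subgroup G, (∀ a, a ∈ N ↔ a ∈ ws V p ∧ a ∈ kq V q) ∧
      (∀ u, u ∈ C ↔ u ∈ ws V q ∧ ∀ a ∈ ws V p, a * u * a⁻¹ * u⁻¹ ∈ zpowers q) ∧
      N.relIndex (ws V p) ≤ C.relIndex (ws V q) := by
  obtain ⟨m, rfl⟩ : ∃ m, n = m + 1 := ⟨n - 1, by omega⟩
  have hpq : ∀ a ∈ ws V p, a * q = q * a := fun a ha => mem_centralizer_singleton_iff.1 (hc.cent h ha)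
  have hqq : ∀ a ∈ ws V q, a * q = q * a := fun a ha =>
    h.ws_comm hc.path.right a ha q (h.mem_ws_self hc.path.right)
  have hN1 := cent_zpowers hpq
  have hC1 := cent_zpowers hqq
  have hN : ∀ a, a ∈ cm (ws V p) (ws V q) (zpowers q) hN1 ↔
      a ∈ ws V p ∧ ∀ u ∈ ws V q, a * u * a⁻¹ * u⁻¹ ∈ zpowers q := fun a => mem_cm
  have hC : ∀ u, u ∈ cm (ws V q) (ws V p) (zpowers q) hC1 ↔
      u ∈ ws V q ∧ ∀ a ∈ ws V p, a * u * a⁻¹ * u⁻¹ ∈ zpowers q := by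
    intro u
    rw [mem_cm]
    refine and_congr_right fun hu => forall₂_congr fun a ha => ?_
    rw [comm_inv_eq a u, inv_mem_iff]
  refine ⟨_, _, fun a => ?_, hC, no_le h hn hNO hc hN hC⟩
  rw [hN]
  refine and_congr_right fun ha => ⟨fun h' => ?_, fun h' => h'.2.1⟩
  exact mem_kq_of (hc.cent h ha) h'

/-- **(1.1)**: pairs of type I are exact. -/
theorem exact_of_typeI [Finite G] (h : Fr T V z) (hn : 3 ≤ n) (hNO : NoOver (inc (V := V)) RR WS VL)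
    (hc : Cr V n p q) (hp : p ∉ ws V q) (hq : q ∉ ws V p) : Exact V p q := by
  have key : ∀ p q : G, Cr V n p q → q ∉ ws V p → ∀ a ∈ ws V p, ∀ b ∈ ws V q,
      a * b * a⁻¹ * b⁻¹ ∈ zpowers q → a * b = b * a := by
    intro p q hc hq a ha b hb hab
    obtain ⟨m, rfl⟩ : ∃ m, n = m + 1 := ⟨n - 1, by omega⟩
    refine comm_of_comm_eq_one ?_
    rcases (mem_zpowers_iff_of_mul_self (h.pt_sq hc.path.right)).1 hab with e | e
    · exact e
    · exact absurd (e ▸ hc.comm_mem_left h ha hb) hq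
  have hle : ∀ p q : G, Cr V n p q → q ∉ ws V p →
      (ee V p q).relIndex (ws V p) ≤ (ee V q p).relIndex (ws V q) := by
    intro p q hc hq
    refine no_le h hn hNO hc (fun a => ?_) fun u => ?_
    · rw [mem_ee]
      refine and_congr_right fun ha => ⟨fun h' b hb => ?_, fun h' b hb => key p q hc hq a ha b hb (h' b hb)⟩
      rw [comm_eq_one (h' b hb)]
      exact one_mem _
    · rw [mem_ee]
      refine and_congr_right fun hu => ⟨fun h' a ha => ?_, fun h' a ha =>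
        (key p q hc hq a ha u hu (h' a ha)).symm⟩
      rw [comm_eq_one (h' a ha).symm]
      exact one_mem _
  refine ⟨fun b hb hk => ?_, fun w hw hk => ?_, fun w hw hk => ?_, fun b hb hk => ?_,
    le_antisymm (hle p q hc hq) (hle q p hc.symm hp)⟩
  · exact mem_ee.2 ⟨hb, fun w hw => key q p hc.symm hp b hb w hw (hk.2.1 w hw)⟩
  · exact mem_ee.2 ⟨hw, fun b hb => key p q hc hq w hw b hb (hk.2.1 b hb)⟩
  · exact mem_ee.2 ⟨hw, fun b hb => (key q p hc.symm hp b hb w hw (hk b hb)).symm⟩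
  · exact mem_ee.2 ⟨hb, fun w hw => (key p q hc hq w hw b hb (hk w hw)).symm⟩

/-- Without goal pairs `x^b = p x` never happens. -/
theorem no_mul [Finite G] (h : Fr T V z) (hn : 3 ≤ n) (hNO : NoOver (inc (V := V)) RR WS VL)
    (hG : ¬ ∃ p x q, Goal V n p x q) (hc : Cr V n p q) (hx : Col V x p) (hxp : x ≠ p) {b : G}
    (hb : b ∈ ws V q) : b * x * b⁻¹ ≠ p * x := by
  intro e
  obtain ⟨m, rfl⟩ : ∃ m, n = m + 1 := ⟨n - 1, by omega⟩
  obtain ⟨r, g, h1, h2, h3, h4, h5, h6, -⟩ := hc.last h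
  have hp1 : p ≠ 1 := hc.path.left.ne_one
  rcases (lemM h hn hNO hc (r := r) h1 (Col.of_mem h2 h3 h4 h5) hx hb (by
    rw [e]
    intro e'
    exact hp1 (by simpa using e')) (by
    rw [e]
    exact h.inf_mul_le hx.symm hxp)).2 with hg | ⟨-, hpq, -⟩
  · exact hG ⟨_, _, _, hg⟩
  · apply hpq
    have h7 : b * x * b⁻¹ * x⁻¹ ∈ ws V q := by
      rw [comm_inv_eq b x]
      exact inv_mem (hc.comm_mem_right h (h.mem_ws_of_col hx.symm) hb)
    rw [e, mul_inv_cancel_right] at h7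
    exact h7

/-- Without goal pairs `W_q ∩ K_p = C_{W_q}(W_p)`. -/
theorem kq_cent [Finite G] (h : Fr T V z) (hn : 3 ≤ n) (hNO : NoOver (inc (V := V)) RR WS VL)
    (hG : ¬ ∃ p x q, Goal V n p x q) (hc : Cr V n p q) {b : G} (hb : b ∈ ws V q) (hbk : b ∈ kq V p) :
    b ∈ ee V q p := by
  rw [mem_ee]
  refine ⟨hb, ?_⟩
  have h1 : ws V p ≤ centralizer ({b} : Set G) := by
    refine ws_le fun L hL a ha => ?_
    rw [mem_centralizer_singleton_iff]
    obtain ⟨⟨g, rfl⟩, hpL⟩ := hL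
    by_cases ha1 : a = 1
    · rw [ha1]; simp
    have hap : Col V a p := ⟨g, ha, hpL, ha1, hc.path.left.ne_one⟩
    by_cases hap' : a = p
    · rw [hap']
      exact (kq_p' hbk).symm
    rcases h.kq_cases' hc.path.left hbk (h.mem_ws_of_col hap.symm) with e | e
    · exact (comm_of_conj_eq e).symm
    · exact absurd e (no_mul h hn hNO hG hc hap hap' hb)
  intro w hw
  exact (mem_centralizer_singleton_iff.1 (h1 hw)).symm
where
  kq_p' {V : Subgroup G} {p b : G} (hbk : b ∈ kq V p) : b * p = p * b :=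
    mem_centralizer_singleton_iff.1 (kq_le_centralizer V p hbk)

/-- **(1.2)** -/
theorem exact_or_goal [Finite G] (h : Fr T V z) (hn : 3 ≤ n) (hNO : NoOver (inc (V := V)) RR WS VL) :
    (∃ p x q, Goal V n p x q) ∨
      ((∀ p q, Cr V n p q → Exact V p q) ∧
        ∀ p q, Cr V n p q → ∀ x, Col V x p → x ≠ p → ∀ b ∈ ws V q, b * x * b⁻¹ ≠ p * x) := by
  by_cases hG : ∃ p x q, Goal V n p x q
  · exact Or.inl hG
  refine Or.inr ⟨?_, fun p q hc x hx hxp b hb => no_mul h hn hNO hG hc hx hxp hb⟩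
  have key : ∀ p q : G, Cr V n p q → ∃ C : Subgroup G,
      (∀ u, u ∈ C ↔ u ∈ ws V q ∧ ∀ a ∈ ws V p, a * u * a⁻¹ * u⁻¹ ∈ zpowers q) ∧ ee V q p ≤ C ∧
      (ee V p q).relIndex (ws V p) ≤ C.relIndex (ws V q) ∧
      C.relIndex (ws V q) ≤ (ee V q p).relIndex (ws V q) := by
    intro p q hc
    obtain ⟨N, C, hN, hC, hle⟩ := no_le' h hn hNO hc
    have hNe : N = ee V p q := by
      ext a
      rw [hN]
      refine ⟨fun ha => kq_cent h hn hNO hG hc.symm ha.1 ha.2, fun ha => ⟨ha.1, ?_⟩⟩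
      obtain ⟨m, rfl⟩ : ∃ m, n = m + 1 := ⟨n - 1, by omega⟩
      refine mem_kq_of (hc.cent h ha.1) fun b hb => ?_
      rw [comm_eq_one ((mem_ee.1 ha).2 b hb)]
      exact one_mem _
    have hCe : ee V q p ≤ C := by
      intro u hu
      rw [hC]
      refine ⟨hu.1, fun a ha => ?_⟩
      rw [comm_eq_one ((mem_ee.1 hu).2 a ha).symm]
      exact one_mem _
    rw [hNe] at hle
    exact ⟨C, hC, hCe, hle, relIndex_le_of_le_left hCe index_ne_zero_of_finite⟩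
  intro p q hc
  obtain ⟨C, hC, hC1, hC2, hC3⟩ := key p q hc
  obtain ⟨C', hC', hC1', hC2', hC3'⟩ := key q p hc.symm
  have hcard : (ee V p q).relIndex (ws V p) = (ee V q p).relIndex (ws V q) := by omega
  have h1 : C ≤ ee V q p := by
    have e := relIndex_mul_relIndex (ee V q p) C (ws V q) hC1 fun u hu => ((hC u).1 hu).1
    have e2 : C.relIndex (ws V q) = (ee V q p).relIndex (ws V q) := by omega
    rw [← e2] at e
    have e3 : C.relIndex (ws V q) ≠ 0 := index_ne_zero_of_finite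
    have e4 : (ee V q p).relIndex C = 1 := Nat.eq_of_mul_eq_mul_right (Nat.pos_of_ne_zero e3) (by rw [e, one_mul])
    exact relIndex_eq_one.1 e4
  have h1' : C' ≤ ee V p q := by
    have e := relIndex_mul_relIndex (ee V p q) C' (ws V p) hC1' fun u hu => ((hC' u).1 hu).1
    have e2 : C'.relIndex (ws V p) = (ee V p q).relIndex (ws V p) := by omega
    rw [← e2] at e
    have e3 : C'.relIndex (ws V p) ≠ 0 := index_ne_zero_of_finite
    have e4 : (ee V p q).relIndex C' = 1 := Nat.eq_of_mul_eq_mul_right (Nat.pos_of_ne_zero e3) (by rw [e, one_mul])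
    exact relIndex_eq_one.1 e4
  exact ⟨fun b hb hk => kq_cent h hn hNO hG hc hb hk, fun w hw hk => kq_cent h hn hNO hG hc.symm hw hk,
    fun w hw hk => h1' ((hC' w).2 ⟨hw, hk⟩), fun b hb hk => h1 ((hC b).2 ⟨hb, hk⟩), hcard⟩

end Cfsg.Agent.Omega.NOThree.SecOne
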