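import Cfsg.Agent.Omega.NOThree.LemmaM

/-!
# LEMMA (M+) of NO-3S, `n ≥ 3`, all `s` (helper626 #17440)

In case (β) of LEMMA (M) not only `[W_x, W_q] ≤ W_r` but the whole of `[W_p, W_q]` lies in `W_r`:

* `MDat.plus` : `[W_p, W_q] ≤ W_r` (`NoOver` for the group `W_x W_p`);
* `HasOne` : hypothesis (D) for ONE pair `(x, f)` for every critical pair `(p, q)`;
* `exists_typeI_of_one` : (N'), a critical pair of type I with `[W_p, W_q] ≤ I_l` exists;
* `MDat.alternative` : the alternative for one critical pair.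
-/

set_option autoImplicit false

namespace Cfsg.Agent.Omega.NOThree.LemmaMPlus

open Subgroup Cfsg Cfsg.Agent.ZN Cfsg.Agent.MinSimple.VModule Cfsg.Agent.Omega.NOThree.Pts
open Cfsg.Agent.Omega.NOThree.LemmaM

variable {G X L : Type*} [Group G] [MulAction G X] [MulAction G L]
variable {inc : X → L → Prop} {R W : X → Subgroup G} {V : L → Subgroup G} {s t n : ℕ}

/-- The product of two commuting subgroups. -/
def pr (A B : Subgroup G) (h : ∀ a ∈ A, ∀ b ∈ B, a * b = b * a) : Subgroup G where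
  carrier := {g | ∃ a ∈ A, ∃ b ∈ B, g = a * b}
  one_mem' := ⟨1, one_mem _, 1, one_mem _, by simp⟩
  mul_mem' := by
    rintro _ _ ⟨a, ha, b, hb, rfl⟩ ⟨a', ha', b', hb', rfl⟩
    refine ⟨a * a', mul_mem ha ha', b * b', mul_mem hb hb', ?_⟩
    have h1 := h a' ha' b hb
    calc a * b * (a' * b') = a * (b * a') * b' := by group
      _ = a * (a' * b) * b' := by rw [h1]
      _ = a * a' * (b * b') := by group
  inv_mem' := by
    rintro _ ⟨a, ha, b, hb, rfl⟩
    refine ⟨a⁻¹, inv_mem ha, b⁻¹, inv_mem hb, ?_⟩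
    rw [h a⁻¹ (inv_mem ha) b⁻¹ (inv_mem hb), mul_inv_rev]

theorem mem_pr {A B : Subgroup G} {h : ∀ a ∈ A, ∀ b ∈ B, a * b = b * a} {g : G} :
    g ∈ pr A B h ↔ ∃ a ∈ A, ∃ b ∈ B, g = a * b := Iff.rfl

theorem le_pr_left {A B : Subgroup G} {h : ∀ a ∈ A, ∀ b ∈ B, a * b = b * a} : A ≤ pr A B h :=
  fun a ha => mem_pr.2 ⟨a, ha, 1, one_mem _, (mul_one a).symm⟩

theorem le_pr_right {A B : Subgroup G} {h : ∀ a ∈ A, ∀ b ∈ B, a * b = b * a} : B ≤ pr A B h :=
  fun b hb => mem_pr.2 ⟨1, one_mem _, b, hb, (one_mul b).symm⟩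

section MD

variable {p q r x : X} {l m : L} {f : G} (h : MDat inc R W V s t n p q r x l m f)
include h

theorem com_xp : Com W x p := h.crit.min 1 (by have := h.three; omega) _ _ (Walk.one h.xm h.pm)

/-- `W_p` and `W_{x^g}` commute, `g ∈ W_q`. -/
theorem com_p {g : G} (hg : g ∈ W q) : Com W p (g • x) := by
  have h1 : Walk inc 1 p (g • x) := by
    have h2 := h.D.inc_smul g _ _ h.pm
    rw [h.fix_p hg] at h2
    exact Walk.one h2 (h.D.inc_smul g _ _ h.xm)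
  exact h.crit.min 1 (by have := h.three; omega) _ _ h1

theorem com_pr : Com W p r := h.crit.com_last (by have := h.three; omega) h.walk

variable (hc : Com W x r)
include hc

/-- **LEMMA (M+)**: in case (β) the whole of `[W_p, W_q]` lies in `W_r`. -/
theorem plus [Finite G] (hNO : NoOver inc R W V) : ∀ a ∈ W p, ∀ u ∈ W q, a * u * a⁻¹ * u⁻¹ ∈ W r := by
  have h3 := h.three
  have hxp : Com W x p := com_xp h
  have hpr : Com W p r := com_pr h
  set A : Subgroup G := pr (W x) (W p) hxp with hA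
  have hxA : W x ≤ A := le_pr_left
  have hpA : W p ≤ A := le_pr_right
  -- `A` commutes with `W_r`
  have hAr : ∀ a ∈ A, ∀ c ∈ W r, a * c = c * a := by
    intro a ha c hcc
    obtain ⟨w, hw, w', hw', rfl⟩ := mem_pr.1 ha
    rw [mul_assoc, hpr w' hw' c hcc, ← mul_assoc, hc w hw c hcc, mul_assoc]
  have hAR : ∀ a ∈ A, ∀ c ∈ R q, a * c = c * a := fun a ha c hcc => hAr a ha c (h.R_le_r hcc)
  have hqR : ∀ a ∈ W q, ∀ c ∈ R q, a * c = c * a := fun a ha c hcc => h.D.comm q a ha c (h.D.R_le_W q hcc)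
  have hqp : ∀ a ∈ A, a • q = q := fun a ha => h.D.fix_of_centralizes fun b hb => hAR a ha b hb
  -- `A ≤ O₂(C_G(V_l))`
  have hA2 : A ≤ o2 (centralizer (V l : Set G)) := by
    intro a ha
    obtain ⟨w, hw, w', hw', rfl⟩ := mem_pr.1 ha
    exact mul_mem (h.D.low_line h.crit.min h.walk' le_rfl hc h.rl hw)
      (h.D.low_line h.crit.min h.walk (by omega) hpr h.rl hw')
  have hAc : ∀ a ∈ A, ∀ b ∈ A, a * b = b * a := by
    intro a ha b hb
    obtain ⟨w, hw, w', hw', rfl⟩ := mem_pr.1 ha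
    obtain ⟨v, hv, v', hv', rfl⟩ := mem_pr.1 hb
    have e1 := h.D.comm x w hw v hv
    have e2 := h.D.comm p w' hw' v' hv'
    have e3 := hxp v hv w' hw'
    have e4 := hxp w hw v' hv'
    calc w * w' * (v * v') = w * (w' * v) * v' := by group
      _ = w * (v * w') * v' := by rw [e3]
      _ = (w * v) * (w' * v') := by group
      _ = (v * w) * (v' * w') := by rw [e1, e2]
      _ = v * (w * v') * w' := by group
      _ = v * (v' * w) * w' := by rw [e4]
      _ = v * v' * (w * w') := by group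
  have hAs : ∀ a ∈ A, a * a = 1 := by
    intro a ha
    obtain ⟨w, hw, w', hw', rfl⟩ := mem_pr.1 ha
    have e := hxp w hw w' hw'
    calc w * w' * (w * w') = w * (w' * w) * w' := by group
      _ = w * (w * w') * w' := by rw [e]
      _ = (w * w) * (w' * w') := by group
      _ = 1 := by rw [h.D.sq x w hw, h.D.sq p w' hw', one_mul]
  -- quadratic
  have hquad : ∀ a ∈ A, ∀ b ∈ A, ∀ u ∈ W q, b * (a * u * a⁻¹ * u⁻¹) = (a * u * a⁻¹ * u⁻¹) * b := by
    intro a ha b hb u hu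
    obtain ⟨w, hw, w', hw', rfl⟩ := mem_pr.1 ha
    obtain ⟨v, hv, v', hv', rfl⟩ := mem_pr.1 hb
    have hpu : u • p = p := h.fix_p hu
    have m1 : u * w⁻¹ * u⁻¹ ∈ W (u • x) := h.D.W_smul u x _ (inv_mem hw)
    have m2 : u * w'⁻¹ * u⁻¹ ∈ W p := h.D.norm_W hpu (inv_mem hw')
    have m3 : w' * (u * w'⁻¹ * u⁻¹) ∈ W p := mul_mem hw' m2
    -- `[ww', u] = [w', u] w (u w⁻¹ u⁻¹)`
    have e : w * w' * u * (w * w')⁻¹ * u⁻¹ =
        (w' * (u * w'⁻¹ * u⁻¹)) * (w * (u * w⁻¹ * u⁻¹)) := by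
      have e1 := hxp w hw _ m3
      calc w * w' * u * (w * w')⁻¹ * u⁻¹ = w * (w' * (u * w'⁻¹ * u⁻¹)) * (u * w⁻¹ * u⁻¹) := by group
        _ = (w' * (u * w'⁻¹ * u⁻¹)) * w * (u * w⁻¹ * u⁻¹) := by rw [e1]
        _ = _ := by group
    rw [e]
    have c1 : v * (w' * (u * w'⁻¹ * u⁻¹)) = (w' * (u * w'⁻¹ * u⁻¹)) * v := hxp v hv _ m3
    have c2 : v' * (w' * (u * w'⁻¹ * u⁻¹)) = (w' * (u * w'⁻¹ * u⁻¹)) * v' := h.D.comm p v' hv' _ m3
    have c3 : v * w = w * v := h.D.comm x v hv w hw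
    have c4 : v' * w = w * v' := (hxp w hw v' hv').symm
    have c5 : v * (u * w⁻¹ * u⁻¹) = (u * w⁻¹ * u⁻¹) * v := h.com_x hu v hv _ m1
    have c6 : v' * (u * w⁻¹ * u⁻¹) = (u * w⁻¹ * u⁻¹) * v' := com_p h hu v' hv' _ m1
    have d1 : Commute v (w' * (u * w'⁻¹ * u⁻¹)) := c1
    have d2 : Commute v' (w' * (u * w'⁻¹ * u⁻¹)) := c2
    have d3 : Commute v w := c3
    have d4 : Commute v' w := c4
    have d5 : Commute v (u * w⁻¹ * u⁻¹) := c5
    have d6 : Commute v' (u * w⁻¹ * u⁻¹) := c6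
    exact ((d1.mul_left d2).mul_right ((d3.mul_left d4).mul_right (d5.mul_left d6))).eq
  -- the groups
  set N := cm A (W q) (R q) hAR with hN
  have hrq : r ≠ q := h.crit.ne_last (by omega) h.walk
  have hC : ∀ u, u ∈ cm (W q) A (R q) hqR ↔ u ∈ W q ∧ ∀ a ∈ A, a * u * a⁻¹ * u⁻¹ ∈ R q := by
    intro u
    rw [mem_cm]
    refine and_congr_right fun hu => forall₂_congr fun a ha => ?_
    have e : a * u * a⁻¹ * u⁻¹ = (u * a * u⁻¹ * a⁻¹)⁻¹ := by group
    rw [e, inv_mem_iff]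
  set C := cm (W q) A (R q) hqR with hCdef
  have hle : W q ⊓ W r ≤ C := by
    intro u hu
    rw [hC]
    refine ⟨hu.1, fun a ha => ?_⟩
    have e : a * u * a⁻¹ * u⁻¹ = 1 := by rw [hAr a ha u hu.2]; group
    rw [e]; exact one_mem _
  have h4 : N.relIndex A ≤ C.relIndex (W q) := by
    refine hNO q l h.ql A hA2 hAc hAs ?_ hquad N C (fun a => mem_cm) hC
    intro y hy hyq a ha u hu huy
    exact hAr a ha u (h.D.inf_le h.ql hy h.rl hyq.symm ⟨hu, huy⟩)
  have h5 : C.relIndex (W q) ≤ t := by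
    rw [← h.D.index q r l h.ql h.rl hrq.symm]
    exact relIndex_le_of_le_left hle (relIndex_ne_zero' _ _)
  have h6 : t ≤ N.relIndex (W x) := by
    rw [← inf_relIndex_right]
    refine h.t_le hc (N ⊓ W x) fun a => ?_
    rw [mem_inf, hN, mem_cm]
    exact ⟨fun h => ⟨h.2, h.1.2⟩, fun h => ⟨⟨hxA h.1, h.2⟩, h.1⟩⟩
  -- `N' = {a ∈ A : [a, W_q] ≤ W_r}`
  set N' := cm A (W q) (W r) hAr with hN'
  have hNN' : N ≤ N' := fun a ha => mem_cm.2 ⟨(mem_cm.1 ha).1, fun u hu => h.R_le_r ((mem_cm.1 ha).2 u hu)⟩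
  have hxN' : W x ≤ N' := fun a ha => mem_cm.2 ⟨hxA ha, fun u hu => (h.beta hc hNO).2.2 a ha u hu⟩
  have h7 : N.relIndex (W x) ≤ N.relIndex N' := relIndex_le_of_le_right hxN' (relIndex_ne_zero' _ _)
  have h8 : N.relIndex N' * N'.relIndex A = N.relIndex A :=
    relIndex_mul_relIndex _ _ _ hNN' fun a ha => (mem_cm.1 ha).1
  have h9 : N'.relIndex A = 1 := by
    have h10 := relIndex_ne_zero' N N'
    have h11 := relIndex_ne_zero' N' A
    have h12 : N.relIndex N' * N'.relIndex A ≤ N.relIndex N' * 1 := by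
      rw [h8, mul_one]; omega
    have h13 := Nat.le_of_mul_le_mul_left h12 (Nat.pos_of_ne_zero h10)
    omega
  have h10 : A ≤ N' := relIndex_eq_one.1 h9
  exact fun a ha u hu => (mem_cm.1 (h10 (hpA ha))).2 u hu

end MD

/-- **The alternative for one critical pair**: either `(x, r)` is a critical pair of type I with
`[W_x, W_r] ≤ W_x ∩ W_p`, or `p ∉ W_q` and `[W_p, W_q] ≤ W_q ∩ W_r`. -/
theorem alternative [Finite G] {p q r x : X} {l m : L} {f : G} (h : MDat inc R W V s t n p q r x l m f)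
    (hNO : NoOver inc R W V) :
    TypeI inc R W n x p r m ∨ ((∀ u ∈ R p, u ∈ W q → u = 1) ∧
      ∀ a ∈ W p, ∀ u ∈ W q, a * u * a⁻¹ * u⁻¹ ∈ W q ⊓ W r) := by
  have h3 := h.three
  by_cases hc : Com W x r
  · right
    refine ⟨(h.beta hc hNO).2.1, fun a ha u hu => mem_inf.2 ⟨?_, plus h hc hNO a ha u hu⟩⟩
    exact mul_mem (h.D.norm_W (h.crit.fix h.D (by omega) ha) hu) (inv_mem hu)
  · left
    obtain ⟨h1, h2, h3, h4⟩ := h.alpha hc
    exact ⟨h1, h.xm, h.pm, h.ne.symm, h.walk, h2, h3, h4⟩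

/-- Hypothesis (D) for one pair: for every critical pair `(p, q)` there are ONE `x ∼ p` and `f ∈ W_q` which moves
`x`, with `W_x ∩ W_{x^f} ≤ W_p`. -/
def HasOne (inc : X → L → Prop) (W : X → Subgroup G) (n : ℕ) : Prop :=
  ∀ (p q : X), Crit inc W n p q → ∃ (x : X) (m : L) (f : G), inc x m ∧ inc p m ∧ f ∈ W q ∧ f • x ≠ x ∧
    ∀ a ∈ W x, a ∈ W (f • x) → a ∈ W p

/-- **(N')** -/
theorem exists_typeI_of_one [Finite G] (D : Geom inc R W V s t) (hn : 3 ≤ n) (hNO : NoOver inc R W V)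
    (hD : HasOne inc W n) {p q : X} (hcr : Crit inc W n p q) :
    ∃ p x q l, TypeI inc R W n p x q l := by
  by_contra hcon
  have key : ∀ p q r l, Crit inc W n p q → Walk inc (n - 1) p r → inc r l → inc q l →
      (∀ u ∈ R p, u ∈ W q → u = 1) ∧ ∀ a ∈ W p, ∀ b ∈ W q, a * b * a⁻¹ * b⁻¹ ∈ W q ⊓ W r := by
    intro p q r l hc hr hrl hql
    obtain ⟨x, m, f, hx, hm, hf, hfx, hlow⟩ := hD p q hc
    have hM : MDat inc R W V s t n p q r x l m f := ⟨D, hn, hc, hr, hrl, hql, hx, hm, hf, hfx, hlow⟩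
    rcases alternative hM hNO with h | h
    · exact (hcon ⟨_, _, _, _, h⟩).elim
    · exact h
  obtain ⟨r, l, hr, hrl, hql⟩ := hcr.last (by omega)
  obtain ⟨r', l', hr', hrl', hql'⟩ := hcr.symm.last (by omega)
  obtain ⟨h1, h2⟩ := key p q r l hcr hr hrl hql
  obtain ⟨h3, -⟩ := key q p r' l' hcr.symm hr' hrl' hql'
  refine hcon ⟨q, r, p, l, hcr.symm, hql, hrl, hcr.ne_last (by omega) hr, hr.symm, h3, h1,
    fun a ha b hb => ?_⟩
  have h4 := h2 b hb a ha
  have e : a * b * a⁻¹ * b⁻¹ = (b * a * b⁻¹ * a⁻¹)⁻¹ := by group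
  rw [e]
  exact inv_mem h4

end Cfsg.Agent.Omega.NOThree.LemmaMPlus
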