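import Cfsg.Agent.Omega.NOThree.LemmaM

/-!
# The K-free core of (D), `s = 2`

`kk R W p = K_p` : the elements of `G_p` which centralise `W_p` modulo `R_p`; `nn R W p = N_p = C_{W_p}(K_p)`.

* `low_core` : if some `g ∈ C_G(W_x)` maps `x' ∼ p` to another point of the line `p x'`, then
  `W_x ∩ W_{x'} ≤ W_p`;
* `exists_kk` : duality for two vectors;
* `low_comm` : (D) in commutator form: it suffices that some `h ∈ C_G(W_x)` has
  `[x', h] ∉ N_p ∪ x N_p`.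
-/

set_option autoImplicit false

namespace Cfsg.Agent.Omega.NOThree.Low

open Subgroup Cfsg Cfsg.Agent.ZN Cfsg.Agent.MinSimple.VModule Cfsg.Agent.Omega.NOThree.Pts

variable {G X L : Type*} [Group G] [MulAction G X] [MulAction G L]
variable {inc : X → L → Prop} {R W : X → Subgroup G} {V : L → Subgroup G} {s t n : ℕ}

/-! ### The core, all `s` -/

/-- If some `g ∈ C_G(W_x)` moves `x'` inside the line `m'` on `p`, then `W_x ∩ W_{x'} ≤ W_p`. -/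
theorem low_core (D : Geom inc R W V s t) {p x x' : X} {m' : L}
    (hx' : inc x' m') (hp : inc p m') {g : G} (hg : ∀ a ∈ W x, g * a = a * g) (hne : g • x' ≠ x')
    (hgx : inc (g • x') m') {a : G} (ha : a ∈ W x) (ha' : a ∈ W x') : a ∈ W p := by
  have h1 : a ∈ W (g • x') := by
    rw [D.W_smul_iff]
    have e : g⁻¹ * a * g = a := by rw [mul_assoc, ← hg a ha]; group
    rwa [e]
  exact D.inf_le hx' hgx hp hne.symm ⟨ha', h1⟩

/-! ### `K_p` and `N_p` -/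

/-- `K_p` -/
def kk (D : Geom inc R W V s t) (p : X) : Subgroup G where
  carrier := {g | g • p = p ∧ ∀ w ∈ W p, g * w * g⁻¹ * w⁻¹ ∈ R p}
  one_mem' := ⟨one_smul _ _, fun w _ => by
    have e : (1 : G) * w * 1⁻¹ * w⁻¹ = 1 := by group
    rw [e]; exact one_mem _⟩
  mul_mem' := by
    rintro a b ⟨ha, ha'⟩ ⟨hb, hb'⟩
    refine ⟨by rw [mul_smul, hb, ha], fun w hw => ?_⟩
    have e : a * b * w * (a * b)⁻¹ * w⁻¹ = (a * (b * w * b⁻¹ * w⁻¹) * a⁻¹) * (a * w * a⁻¹ * w⁻¹) := by group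
    rw [e]
    exact mul_mem (D.norm_R ha (hb' w hw)) (ha' w hw)
  inv_mem' := by
    rintro a ⟨ha, ha'⟩
    have h1 : a⁻¹ • p = p := by rw [inv_smul_eq_iff, ha]
    refine ⟨h1, fun w hw => ?_⟩
    have hw' : a⁻¹ * w * a⁻¹⁻¹ ∈ W p := D.norm_W h1 hw
    rw [inv_inv] at hw'
    have h2 := ha' _ hw'
    have e : a⁻¹ * w * a⁻¹⁻¹ * w⁻¹ = (a * (a⁻¹ * w * a) * a⁻¹ * (a⁻¹ * w * a)⁻¹)⁻¹ := by group
    rw [e]
    exact inv_mem h2

theorem mem_kk (D : Geom inc R W V s t) {p : X} {g : G} :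
    g ∈ kk D p ↔ g • p = p ∧ ∀ w ∈ W p, g * w * g⁻¹ * w⁻¹ ∈ R p := Iff.rfl

/-- `N_p = C_{W_p}(K_p)` -/
def nn (D : Geom inc R W V s t) (p : X) : Subgroup G := W p ⊓ centralizer (kk D p : Set G)

theorem mem_nn (D : Geom inc R W V s t) {p : X} {w : G} :
    w ∈ nn D p ↔ w ∈ W p ∧ ∀ k ∈ kk D p, k * w * k⁻¹ * w⁻¹ = 1 := by
  rw [nn, mem_inf, mem_centralizer_iff]
  refine and_congr_right fun _ => forall₂_congr fun k _ => ?_
  rw [mul_inv_eq_one, mul_inv_eq_iff_eq_mul]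

/-- `[k, w w'] = [k, w] [k, w']` -/
theorem kk_mul (D : Geom inc R W V s t) {p : X} {k w w' : G} (hk : k ∈ kk D p) (hw : w ∈ W p) (hw' : w' ∈ W p) :
    k * (w * w') * k⁻¹ * (w * w')⁻¹ = (k * w * k⁻¹ * w⁻¹) * (k * w' * k⁻¹ * w'⁻¹) := by
  have h1 := D.comm p w hw _ (D.R_le_W p (hk.2 w' hw'))
  have e : k * (w * w') * k⁻¹ * (w * w')⁻¹ = (k * w * k⁻¹ * w⁻¹) * (w * (k * w' * k⁻¹ * w'⁻¹) * w⁻¹) := by group
  rw [e, h1, mul_inv_cancel_right]

/-! ### `s = 2` -/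

section two

variable (D : Geom inc R W V 2 t)
include D

/-- `R_x` has only one element `≠ 1`. -/
theorem R_eq {x : X} {a b : G} (ha : a ∈ R x) (hb : b ∈ R x) (ha1 : a ≠ 1) (hb1 : b ≠ 1) : a = b := by
  have hc := D.card x
  have : Finite (R x) := Nat.finite_of_card_ne_zero (by rw [hc]; norm_num)
  obtain ⟨c, hc1, hcu⟩ := (Nat.card_eq_two_iff' (1 : R x)).1 hc
  have h1 := hcu ⟨a, ha⟩ (fun h => ha1 (congrArg Subtype.val h))
  have h2 := hcu ⟨b, hb⟩ (fun h => hb1 (congrArg Subtype.val h))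
  exact congrArg Subtype.val (h1.trans h2.symm)

/-- `g ∈ G_x` centralises `R_x`. -/
theorem R_comm {x : X} {g a : G} (hg : g • x = x) (ha : a ∈ R x) : g * a = a * g := by
  by_cases ha1 : a = 1
  · rw [ha1]; group
  · have h1 := D.norm_R hg ha
    have h2 : g * a * g⁻¹ ≠ 1 := by
      intro h
      apply ha1
      rw [mul_inv_eq_one] at h
      exact mul_eq_left.1 h
    exact mul_inv_eq_iff_eq_mul.1 (R_eq D h1 ha h2 ha1)

/-- `g` fixes `x` iff it centralises `R_x`. -/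
theorem fix_iff {x : X} {g a : G} (ha : a ∈ R x) (ha1 : a ≠ 1) : g • x = x ↔ g * a = a * g :=
  ⟨fun h => R_comm D h ha, fun h => D.fix ha ha1 h⟩

/-- `[k k', w] = [k', w] [k, w]` -/
theorem mul_kk {p : X} {k k' w : G} (hk : k ∈ kk D p) (hk' : k' ∈ kk D p) (hw : w ∈ W p) :
    k * k' * w * (k * k')⁻¹ * w⁻¹ = (k' * w * k'⁻¹ * w⁻¹) * (k * w * k⁻¹ * w⁻¹) := by
  have h1 := R_comm D hk.1 (hk'.2 w hw)
  have e : k * k' * w * (k * k')⁻¹ * w⁻¹ = (k * (k' * w * k'⁻¹ * w⁻¹)) * k⁻¹ * (k * w * k⁻¹ * w⁻¹) := by group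
  rw [e, h1]
  group

/-- Duality for two vectors. -/
theorem exists_kk {p : X} {v w : G} (hv : v ∈ W p) (hw : w ∈ W p) (h1 : v ∉ nn D p) (h2 : v * w ∉ nn D p) :
    ∃ k ∈ kk D p, k * w * k⁻¹ * w⁻¹ = 1 ∧ k * v * k⁻¹ * v⁻¹ ≠ 1 := by
  by_contra hcon
  push Not at hcon
  have h1' : ∃ k ∈ kk D p, k * v * k⁻¹ * v⁻¹ ≠ 1 := by
    by_contra h
    push Not at h
    exact h1 ((mem_nn D).2 ⟨hv, h⟩)
  have h2' : ∃ k ∈ kk D p, k * (v * w) * k⁻¹ * (v * w)⁻¹ ≠ 1 := by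
    by_contra h
    push Not at h
    exact h2 ((mem_nn D).2 ⟨mul_mem hv hw, h⟩)
  obtain ⟨k, hk, hkv⟩ := h1'
  obtain ⟨k', hk', hkw'⟩ := h2'
  have hkw : k * w * k⁻¹ * w⁻¹ ≠ 1 := fun h => hkv (hcon k hk h)
  rw [kk_mul D hk' hv hw] at hkw'
  have ev : k * v * k⁻¹ * v⁻¹ = k * w * k⁻¹ * w⁻¹ := R_eq D (hk.2 v hv) (hk.2 w hw) hkv hkw
  have hkk := mul_kk D hk hk' hv
  have hkk2 := mul_kk D hk hk' hw
  have hcr : ∀ a ∈ R p, a * a = 1 := fun a ha => D.sq p a (D.R_le_W p ha)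
  by_cases h3 : k' * w * k'⁻¹ * w⁻¹ = 1
  · exact hkw' (by rw [hcon k' hk' h3, h3, one_mul])
  · -- `k'` moves `w`; so it fixes `v`
    by_cases h4 : k' * v * k'⁻¹ * v⁻¹ = 1
    · have h5 : k * w * k⁻¹ * w⁻¹ = k' * w * k'⁻¹ * w⁻¹ := R_eq D (hk.2 w hw) (hk'.2 w hw) hkw h3
      have h6 : k * k' * w * (k * k')⁻¹ * w⁻¹ = 1 := by
        rw [hkk2, ← h5]; exact hcr _ (hk.2 w hw)
      have h7 := hcon _ (mul_mem hk hk') h6
      rw [hkk, h4, one_mul] at h7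
      exact hkv h7
    · have h5 : k' * v * k'⁻¹ * v⁻¹ = k' * w * k'⁻¹ * w⁻¹ := R_eq D (hk'.2 v hv) (hk'.2 w hw) h4 h3
      exact hkw' (by rw [h5]; exact hcr _ (hk'.2 w hw))

/-- **(D) in commutator form.** -/
theorem low_comm {p x x' : X} {m m' : L} (hx : inc x m) (hpm : inc p m) (hx' : inc x' m') (hp : inc p m')
    {h : G} (hh : ∀ a ∈ W x, h * a = a * h) {u u' : G} (hu : u ∈ R x) (hu1 : u ≠ 1) (hu' : u' ∈ R x')
    (hu1' : u' ≠ 1) (h1 : u' * (h⁻¹ * u' * h) ∉ nn D p) (h2 : u' * (h⁻¹ * u' * h) * u ∉ nn D p) {a : G}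
    (ha : a ∈ W x) (ha' : a ∈ W x') : a ∈ W p := by
  have hpx : R p ≤ W x := (D.R_le p m hpm).trans (D.V_le x m hx)
  have huW : u ∈ W p := D.V_le p m hpm (D.R_le x m hx hu)
  have hu'W : u' ∈ W p := D.V_le p m' hp (D.R_le x' m' hx' hu')
  have hhp : h • p = p := D.fix_of_centralizes fun a ha => hh a (hpx ha)
  have hhp' : h⁻¹ • p = p := by rw [inv_smul_eq_iff, hhp]
  have hy : h⁻¹ * u' * h ∈ W p := by
    have := D.norm_W hhp' hu'W
    rwa [inv_inv] at this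
  obtain ⟨k, hk, hku, hkv⟩ := exists_kk D (mul_mem hu'W hy) huW h1 h2
  rw [kk_mul D hk hu'W hy] at hkv
  have hkx : k • x = x := by
    refine D.fix hu hu1 ?_
    rw [mul_inv_eq_one, mul_inv_eq_iff_eq_mul] at hku
    exact hku
  set g := k * h * k⁻¹ * h⁻¹ with hg
  have hkx' : k⁻¹ • x = x := by rw [inv_smul_eq_iff, hkx]
  have hgW : ∀ a ∈ W x, g * a = a * g := by
    intro a ha
    have h3 : k⁻¹ * a * k ∈ W x := by
      have := D.norm_W hkx' ha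
      rwa [inv_inv] at this
    have h4 := hh _ h3
    have h5 : (k * h * k⁻¹) * a = a * (k * h * k⁻¹) := by
      calc (k * h * k⁻¹) * a = k * (h * (k⁻¹ * a * k)) * k⁻¹ := by group
        _ = k * ((k⁻¹ * a * k) * h) * k⁻¹ := by rw [h4]
        _ = a * (k * h * k⁻¹) := by group
    have h6 : h⁻¹ * a = a * h⁻¹ := by
      have := hh a ha
      calc h⁻¹ * a = h⁻¹ * (a * h) * h⁻¹ := by group
        _ = h⁻¹ * (h * a) * h⁻¹ := by rw [this]
        _ = a * h⁻¹ := by group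
    calc g * a = (k * h * k⁻¹) * (h⁻¹ * a) := by rw [hg]; group
      _ = ((k * h * k⁻¹) * a) * h⁻¹ := by rw [h6]; group
      _ = a * g := by rw [h5, hg]; group
  -- `g u' g⁻¹ = c u'`, `1 ≠ c ∈ R p`
  set y := h⁻¹ * u' * h with hydef
  set cy := k * y * k⁻¹ * y⁻¹ with hcy
  set cu := k * u' * k⁻¹ * u'⁻¹ with hcu
  have hcyR : cy ∈ R p := hk.2 y hy
  have hcuR : cu ∈ R p := hk.2 u' hu'W
  have hkc : k * cy = cy * k := R_comm D hk.1 hcyR
  have hhc : h * cy = cy * h := R_comm D hhp hcyR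
  have hcy2 : cy * cy = 1 := D.sq p cy (D.R_le_W p hcyR)
  have h7 : k⁻¹ * y * k = cy * y := by
    have e1 : k * (cy * y) * k⁻¹ = y := by
      calc k * (cy * y) * k⁻¹ = (k * cy) * y * k⁻¹ := by group
        _ = cy * (k * y * k⁻¹ * y⁻¹) * y := by rw [hkc]; group
        _ = cy * cy * y := by rw [← hcy]
        _ = y := by rw [hcy2, one_mul]
    calc k⁻¹ * y * k = k⁻¹ * (k * (cy * y) * k⁻¹) * k := by rw [e1]
      _ = cy * y := by group
  have key : g * u' * g⁻¹ = cu * cy * u' := by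
    calc g * u' * g⁻¹ = k * h * (k⁻¹ * y * k) * h⁻¹ * k⁻¹ := by rw [hg, hydef]; group
      _ = k * (h * cy) * y * h⁻¹ * k⁻¹ := by rw [h7]; group
      _ = (k * cy) * (h * y * h⁻¹) * k⁻¹ := by rw [hhc]; group
      _ = cy * (k * u' * k⁻¹ * u'⁻¹) * u' := by rw [hkc, hydef]; group
      _ = cy * cu * u' := by rw [← hcu]
      _ = cu * cy * u' := by rw [D.comm p cy (D.R_le_W p hcyR) cu (D.R_le_W p hcuR)]
  have hne : g * u' * g⁻¹ ≠ u' := by
    rw [key]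
    intro h8
    exact hkv (mul_eq_right.1 h8)
  have hgx : g • x' ≠ x' := by
    intro h8
    apply hne
    rw [R_comm D h8 hu']
    group
  have hmem : g * u' * g⁻¹ ∈ V m' := by
    rw [key]
    exact mul_mem (D.R_le p m' hp (mul_mem hcuR hcyR)) (D.R_le x' m' hx' hu')
  obtain ⟨z, hz, hzu⟩ := D.cover m' _ hmem
  have hgz : g • x' = z := by
    refine D.ti _ _ _ (D.R_smul g x' u' hu') hzu ?_
    intro h8
    apply hu1'
    rw [mul_inv_eq_one] at h8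
    exact mul_eq_left.1 h8
  exact low_core D hx' hp hgW hgx (hgz ▸ hz) ha ha'

end two

end Cfsg.Agent.Omega.NOThree.Low
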