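import Cfsg.Agent.Omega.NOThree.SecOne

/-!
# NO-3S, TwoFar (`|V_P| = 4`, `n ≥ 3`): section 5 of #16267 (helper292): a goal pair exists

* `Sp V p q x` : `x ∼ p` is special for the critical pair `(p, q)`: some `f ∈ W_q` moves `x` and
  `W_x ∩ W_{x^f} ≤ W_p`, that is, (D);
* `DGen V n` : the output of (4.2): for an exact critical pair `(p, q)` the special points generate `W_p` modulo
  `C_{W_p}(W_q)`;
* `exists_goal` : (NO) and (4.2) give a goal pair;
* `le_of_beta` : the same step for one pair: if (α) never occurs for `(p, q)`, then `[W_p, W_q] ≤ W_r`.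
-/

set_option autoImplicit false

namespace Cfsg.Agent.Omega.NOThree.SecFive

open Subgroup Cfsg Cfsg.Agent.ZN Cfsg.Agent.MinSimple.Geo Cfsg.Agent.Omega.CaseL Cfsg.Agent.Omega.NO3S.TwoOne
open Cfsg.Agent.Omega.NO3S.Pt Cfsg.Agent.Omega.NO3S.TwoFar
open Cfsg.Agent.Omega.NOThree.LemmaM (NoOver cm mem_cm)
open Cfsg.Agent.Omega.NOThree.SecOne

universe u

variable {G : Type u} [Group G] {T V : Subgroup G} {z p q r x f : G} {n : ℕ}

/-- `x` is special for the pair `(p, q)`. -/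
def Sp (V : Subgroup G) (p q x : G) : Prop :=
  Col V x p ∧ ∃ f ∈ ws V q, f * x * f⁻¹ ≠ x ∧ ws V x ⊓ ws V (f * x * f⁻¹) ≤ ws V p

/-- The output of (4.2). -/
def DGen (V : Subgroup G) (n : ℕ) : Prop :=
  ∀ p q, Cr V n p q → Exact V p q → ws V p ≤ ee V p q ⊔ closure {x | Sp V p q x}

/-- If the special points generate `W_p` modulo `C_{W_p}(W_q)` there is a special point. -/
theorem exists_sp (hc : Cr V n p q) (hg : ws V p ≤ ee V p q ⊔ closure {x | Sp V p q x}) : ∃ x, Sp V p q x := by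
  by_contra hcon
  push Not at hcon
  have h1 : {x | Sp V p q x} = ∅ := by
    ext x
    exact ⟨fun hx => absurd hx (hcon x), fun hx => absurd hx (Set.notMem_empty x)⟩
  rw [h1, Subgroup.closure_empty, sup_bot_eq] at hg
  exact hc.ne fun a ha b hb => (mem_ee.1 (hg ha)).2 b hb

/-- If (α) never occurs for the pair `(p, q)` and the special points generate `W_p` modulo `C_{W_p}(W_q)`, then
`p ∉ W_q` and `[W_p, W_q] ≤ W_r`, `r` the last point of the path before `q`. -/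
theorem le_of_beta [Finite G] (h : Fr T V z) (hn : 3 ≤ n) (hNO : NoOver (inc (V := V)) RR WS VL)
    (hc : Cr V n p q) (hr : Pth V (n - 1) p r) (hrq : Col V r q)
    (hG : ∀ x, Sp V p q x → ¬ Goal V n x p r)
    (hg : ws V p ≤ ee V p q ⊔ closure {x | Sp V p q x}) :
    p ∉ ws V q ∧ ∀ a ∈ ws V p, ∀ b ∈ ws V q, a * b * a⁻¹ * b⁻¹ ∈ ws V r := by
  have key : ∀ x, Sp V p q x → p ∉ ws V q ∧ ∀ a ∈ ws V x, ∀ u ∈ ws V q, a * u * a⁻¹ * u⁻¹ ∈ ws V r := by
    intro x hx
    obtain ⟨hxp, f, hf, hfx, hD⟩ := id hx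
    rcases (lemM h hn hNO hc hr hrq hxp hf hfx hD).2 with h1 | ⟨-, h1, h2⟩
    · exact absurd h1 (hG x hx)
    · exact ⟨h1, h2⟩
  refine ⟨(key _ (exists_sp hc hg).choose_spec).1, ?_⟩
  have hcom : Com V p r := hc.min (n - 1) (by omega) p r hr
  have h1 : ws V p ≤ cm (ws V p) (ws V q) (ws V r) hcom := by
    refine hg.trans (sup_le ?_ ?_)
    · intro a ha
      refine mem_cm.2 ⟨ha.1, fun b hb => ?_⟩
      rw [comm_eq_one ((mem_ee.1 ha).2 b hb)]
      exact one_mem _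
    · rw [closure_le]
      intro x hx
      refine mem_cm.2 ⟨h.mem_ws_of_col hx.1.symm, fun b hb => ?_⟩
      exact (key x hx).2 x (h.mem_ws_self hx.1.left) b hb
  exact fun a ha => (mem_cm.1 (h1 ha)).2

/-- **Section 5**: a goal pair exists. -/
theorem exists_goal [Finite G] (h : Fr T V z) (hn : 3 ≤ n) (hNO : NoOver (inc (V := V)) RR WS VL)
    (hD : DGen V n) (hex : ∃ p q, Cr V n p q) : ∃ p x q, Goal V n p x q := by
  rcases exact_or_goal h hn hNO with hG | ⟨hE, -⟩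
  · exact hG
  by_contra hG
  obtain ⟨p, q, hc⟩ := hex
  obtain ⟨m, rfl⟩ : ∃ m, n = m + 1 := ⟨n - 1, by omega⟩
  obtain ⟨r, g, h1, h2, h3, h4, h5, h6, -⟩ := hc.last h
  obtain ⟨r', g', h1', h2', h3', h4', h5', h6', -⟩ := hc.symm.last h
  have ha := le_of_beta h hn hNO hc (r := r) h1 (Col.of_mem h2 h3 h4 h5)
    (fun x _ hx => hG ⟨_, _, _, hx⟩) (hD p q hc (hE p q hc))
  have hb := le_of_beta h hn hNO hc.symm (r := r') h1' (Col.of_mem h2' h3' h4' h5')
    (fun x _ hx => hG ⟨_, _, _, hx⟩) (hD q p hc.symm (hE q p hc.symm))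
  refine hG ⟨q, r, p, hc.symm, Col.of_mem h3 h2 h5 h4, h6, h1.symm, hb.1, ha.1, fun a ha' b hb' => ⟨?_, ?_⟩⟩
  · exact hc.symm.comm_mem_left h ha' hb'
  · rw [comm_inv_eq a b]
    exact (ws V r).inv_mem (ha.2 b hb' a ha')

end Cfsg.Agent.Omega.NOThree.SecFive
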