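import Cfsg.Agent.Omega.NOThree.LemmaMPlus
import Cfsg.Agent.Omega.NOThree.SecFive

/-!
# NO-3S, TwoFar (`|V_P| = 4`, `n ≥ 3`): section 5 of #16267 with ONE special point (LEMMA M+, helper626 #17440)

* `lemMplus` : LEMMA (M+) in the language of `Pt.Fr`: in case (β) the whole of `[W_p, W_q]` lies in `W_r`;
* `DOne V n` : every exact critical pair `(p, q)` has ONE special point `x` (`SecFive.Sp`);
* `exists_goal_of_one` : (NO) and `DOne` give a goal pair;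
* `DGen.one` : `SecFive.DGen` implies `DOne`;
* `second_not_mem` : (2) of #17440: `p_1 ∉ W_q ∩ W_r`, so `p_1 ∉ [W_p, W_q]` in case (β)
  (`r` the last point before `q`).
-/

set_option autoImplicit false

namespace Cfsg.Agent.Omega.NOThree.SecFiveOne

open Subgroup Cfsg Cfsg.Agent.ZN Cfsg.Agent.MinSimple.Geo Cfsg.Agent.Omega.CaseL Cfsg.Agent.Omega.NO3S.TwoOne
open Cfsg.Agent.Omega.NO3S.Pt Cfsg.Agent.Omega.NO3S.TwoFar
open Cfsg.Agent.Omega.NOThree.LemmaM (NoOver)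
open Cfsg.Agent.Omega.NOThree.SecOne Cfsg.Agent.Omega.NOThree.SecFive

universe u

variable {G : Type u} [Group G] {T V : Subgroup G} {z p q r x f : G} {n : ℕ}

/-- **LEMMA (M+)**: `x ∼ p`, `f ∈ W_q` moves `x`, and (D): either a goal pair, or `p ∉ W_q` and the whole of
`[W_p, W_q]` lies in `W_q ∩ W_r`. -/
theorem lemMplus [Finite G] (h : Fr T V z) (hn : 3 ≤ n) (hNO : NoOver (inc (V := V)) RR WS VL)
    (hc : Cr V n p q) (hr : Pth V (n - 1) p r) (hrq : Col V r q) (hx : Col V x p) (hf : f ∈ ws V q)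
    (hfx : f * x * f⁻¹ ≠ x) (hD : ws V x ⊓ ws V (f * x * f⁻¹) ≤ ws V p) :
    Goal V n x p r ∨ (Com V x r ∧ p ∉ ws V q ∧
      ∀ a ∈ ws V p, ∀ u ∈ ws V q, a * u * a⁻¹ * u⁻¹ ∈ ws V q ⊓ ws V r) := by
  rcases (lemM h hn hNO hc hr hrq hx hf hfx hD).2 with h1 | ⟨h1, h2, -⟩
  · exact Or.inl h1
  · right
    obtain ⟨l, m, hM⟩ := mdat h hn hc hr hrq hx hf hfx hD
    obtain ⟨k, rfl⟩ : ∃ k, n = k + 1 := ⟨n - 1, by omega⟩
    exact ⟨h1, h2, fun a ha u hu => mem_inf.2 ⟨hc.comm_mem_right h ha hu,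
      LemmaMPlus.plus hM h1 hNO a ha u hu⟩⟩

/-- Every exact critical pair has a special point. -/
def DOne (V : Subgroup G) (n : ℕ) : Prop :=
  ∀ p q, Cr V n p q → Exact V p q → ∃ x, Sp V p q x

theorem DGen.one (h : DGen V n) : DOne V n := fun p q hc hE => exists_sp hc (h p q hc hE)

/-- One special point `x` of the pair `(p, q)`: either a goal pair, or `p ∉ W_q`, `[W_p, W_q] ≤ W_q ∩ W_r`. -/
theorem le_of_sp [Finite G] (h : Fr T V z) (hn : 3 ≤ n) (hNO : NoOver (inc (V := V)) RR WS VL)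
    (hc : Cr V n p q) (hr : Pth V (n - 1) p r) (hrq : Col V r q) (hx : Sp V p q x)
    (hG : ¬ Goal V n x p r) :
    p ∉ ws V q ∧ ∀ a ∈ ws V p, ∀ b ∈ ws V q, a * b * a⁻¹ * b⁻¹ ∈ ws V q ⊓ ws V r := by
  obtain ⟨hxp, f, hf, hfx, hD⟩ := hx
  rcases lemMplus h hn hNO hc hr hrq hxp hf hfx hD with h1 | ⟨-, h1, h2⟩
  · exact absurd h1 hG
  · exact ⟨h1, h2⟩

/-- **Section 5 with one special point**: a goal pair exists. -/
theorem exists_goal_of_one [Finite G] (h : Fr T V z) (hn : 3 ≤ n) (hNO : NoOver (inc (V := V)) RR WS VL)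
    (hD : DOne V n) (hex : ∃ p q, Cr V n p q) : ∃ p x q, Goal V n p x q := by
  rcases exact_or_goal h hn hNO with hG | ⟨hE, -⟩
  · exact hG
  by_contra hG
  obtain ⟨p, q, hc⟩ := hex
  obtain ⟨m, rfl⟩ : ∃ m, n = m + 1 := ⟨n - 1, by omega⟩
  obtain ⟨r, g, h1, h2, h3, h4, h5, h6, -⟩ := hc.last h
  obtain ⟨r', g', h1', h2', h3', h4', h5', h6', -⟩ := hc.symm.last h
  obtain ⟨x, hx⟩ := hD p q hc (hE p q hc)
  obtain ⟨x', hx'⟩ := hD q p hc.symm (hE q p hc.symm)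
  have ha := le_of_sp h hn hNO hc (r := r) h1 (Col.of_mem h2 h3 h4 h5) hx fun hx => hG ⟨_, _, _, hx⟩
  have hb := le_of_sp h hn hNO hc.symm (r := r') h1' (Col.of_mem h2' h3' h4' h5') hx'
    fun hx => hG ⟨_, _, _, hx⟩
  refine hG ⟨q, r, p, hc.symm, Col.of_mem h3 h2 h5 h4, h6, h1.symm, hb.1, ha.1, fun a ha' b hb' => ?_⟩
  rw [comm_inv_eq a b]
  exact inv_mem (ha.2 b hb' a ha')

/-- The same without exactness: every critical pair has a special point. -/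
theorem exists_goal_of_all [Finite G] (h : Fr T V z) (hn : 3 ≤ n) (hNO : NoOver (inc (V := V)) RR WS VL)
    (hD : ∀ p q, Cr V n p q → ∃ x, Sp V p q x) (hex : ∃ p q, Cr V n p q) : ∃ p x q, Goal V n p x q :=
  exists_goal_of_one h hn hNO (fun p q hc _ => hD p q hc) hex

/-- (2): a point `p₁` at distance `n - 2` from `r` does not lie in `W_q ∩ W_r` (`r`, `q` on a line, `d(p, q) = n`,
`p₁ ∼ p`). -/
theorem second_not_mem [Finite G] (h : Fr T V z) (hn : 3 ≤ n) (hc : Cr V n p q) {p₁ : G} (hp : Col V p p₁)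
    (hr : Pth V (n - 2) p₁ r) {g : G} (hrg : r ∈ cj g V) (hqg : q ∈ cj g V) :
    ¬ (p₁ ∈ ws V q ∧ p₁ ∈ ws V r) := by
  rintro ⟨h1, h2⟩
  have hr1 : r ≠ 1 := hr.right.ne_one
  have hq1 : q ≠ 1 := hc.path.right.ne_one
  have hshort : ∀ k, k < n → ¬ Pth V k p q := fun k hk h0 => hc.ne (hc.min k hk p q h0)
  have hpr : Pth V (n - 2 + 1) p r := Pth.head hp hr
  have hrq : r ≠ q := by
    intro e
    rw [e] at hpr
    exact hshort (n - 2 + 1) (by omega) hpr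
  by_cases hV : p₁ ∈ cj g V
  · have h3 : Pth V 1 p₁ q := Pth.of_col (Col.of_mem hV hqg hp.right.ne_one hq1)
    exact hshort (1 + 1) (by omega) (Pth.head hp h3)
  · have hii : p₁ ∈ ii (cj g V) := h.mem_ii_cj hqg hq1 hrg hr1 hrq h1 h2
    obtain ⟨k, -, hk2, hk3⟩ := h.ftwo_cj hii hV hrg hr1 hqg hq1
    have h3 : Pth V (n - 2) p₁ q := by
      have h4 := hr.conj k
      have h5 : k * p₁ * k⁻¹ = p₁ := by rw [hk2, mul_inv_cancel_right]
      rwa [h5, hk3] at h4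
    exact hshort (n - 2 + 1) (by omega) (Pth.head hp h3)

end Cfsg.Agent.Omega.NOThree.SecFiveOne
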