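import Mathlib

/-!
# The 2F-inequality (OMEGA, NO-3, #10583 (2)); K-free, all `q`

`W = W_p`, `W' = W_q` normalise each other (this is not even needed), `E ≤ W` with `[E, W'] ≤ q`,
`E' ≤ W'` with `[E', W] ≤ p`, `p ∩ q = 1`, `W` and `W'` centralise `p` and `q`.

* `Cross.comm` : `[E, E'] = 1`;
* `Cross.relIndex_le_pow` : `|E' : C_{E'}(W)| ≤ |p| ^ log₂ |W : E|`;
* `Cross.relIndex_le` : `|p| = 2`: `|E' : C_{E'}(W)| ≤ |W : E|`;
* `Cross.twoF` : `|p| = |q| = 2`: `|W : C_W(W')| ≤ |W : E| |W' : E'|`;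
* `Cross.dich` : on the side of the larger index the offender is a 2F-offender;
* `Cross.ff` : if `E` centralises `W'`: `|W : C_W(W')| ≤ |W : E|`;
* `Cross.twoF_mod`, `Cross.ff_mod` : the same for the module `W/p`; `Cross.of_ker` : `E = W ∩ K_q`,
  `E' = W' ∩ K_p`.
-/

set_option autoImplicit false

namespace Cfsg.Agent.Omega.NOThree

open Subgroup

variable {G : Type*} [Group G]

/-- The data of the 2F-inequality. -/
structure Cross (W W' E E' p q : Subgroup G) : Prop where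
  E_le : E ≤ W
  E_le' : E' ≤ W'
  pW : ∀ x ∈ p, ∀ w ∈ W, x * w = w * x
  pW' : ∀ x ∈ p, ∀ w ∈ W', x * w = w * x
  qW : ∀ x ∈ q, ∀ w ∈ W, x * w = w * x
  qW' : ∀ x ∈ q, ∀ w ∈ W', x * w = w * x
  EW : ∀ e ∈ E, ∀ w ∈ W', e * w * e⁻¹ * w⁻¹ ∈ q
  EW' : ∀ e ∈ E', ∀ w ∈ W, e * w * e⁻¹ * w⁻¹ ∈ p
  inf : ∀ x ∈ p, x ∈ q → x = 1

namespace Cross

variable {W W' E E' p q : Subgroup G}

theorem symm (h : Cross W W' E E' p q) : Cross W' W E' E q p where
  E_le := h.E_le'
  E_le' := h.E_le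
  pW := h.qW'
  pW' := h.qW
  qW := h.pW'
  qW' := h.pW
  EW := h.EW'
  EW' := h.EW
  inf := fun x hx hx' => h.inf x hx' hx

/-- `[E, E'] = 1`. -/
theorem comm (h : Cross W W' E E' p q) {e e' : G} (he : e ∈ E) (he' : e' ∈ E') :
    e * e' = e' * e := by
  have h1 := h.EW e he e' (h.E_le' he')
  have h2 := h.EW' e' he' e (h.E_le he)
  have h3 : (e' * e * e'⁻¹ * e⁻¹) = (e * e' * e⁻¹ * e'⁻¹)⁻¹ := by group
  have h4 : e * e' * e⁻¹ * e'⁻¹ ∈ p := by
    have := p.inv_mem h2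
    rwa [h3, inv_inv] at this
  have h5 := h.inf _ h4 h1
  have : e * e' = (e * e' * e⁻¹ * e'⁻¹) * (e' * e) := by group
  rw [this, h5, one_mul]

/-- the homomorphism `e ↦ [w, e]` from `C_{E'}(X)` to `p` -/
noncomputable def hom (h : Cross W W' E E' p q) (X : Subgroup G) {w : G} (hw : w ∈ W) :
    (E' ⊓ centralizer (X : Set G) : Subgroup G) →* p where
  toFun e := ⟨(e : G) * w * (e : G)⁻¹ * w⁻¹, h.EW' _ e.2.1 _ hw⟩
  map_one' := by ext; simp
  map_mul' := by
    intro a b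
    ext
    have hb := h.EW' _ b.2.1 _ hw
    have hc : (a : G) * ((b : G) * w * (b : G)⁻¹ * w⁻¹) * (a : G)⁻¹
        = (b : G) * w * (b : G)⁻¹ * w⁻¹ := by
      rw [← h.pW' _ hb _ (h.E_le' a.2.1)]; group
    have ha := h.EW' _ a.2.1 _ hw
    show (a : G) * b * w * ((a : G) * b)⁻¹ * w⁻¹
      = ((a : G) * w * (a : G)⁻¹ * w⁻¹) * ((b : G) * w * (b : G)⁻¹ * w⁻¹)
    have e1 : (a : G) * b * w * ((a : G) * b)⁻¹ * w⁻¹
        = ((a : G) * ((b : G) * w * (b : G)⁻¹ * w⁻¹) * (a : G)⁻¹)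
          * ((a : G) * w * (a : G)⁻¹ * w⁻¹) := by group
    rw [e1, hc]
    have hbW : ((b : G) * w * (b : G)⁻¹ * w⁻¹) * w = w * ((b : G) * w * (b : G)⁻¹ * w⁻¹) :=
      h.pW _ hb _ hw
    have haW' := h.pW' _ hb _ (h.E_le' a.2.1)
    have haW'' : ((b : G) * w * (b : G)⁻¹ * w⁻¹) * (a : G)⁻¹
        = (a : G)⁻¹ * ((b : G) * w * (b : G)⁻¹ * w⁻¹) :=
      h.pW' _ hb _ (inv_mem (h.E_le' a.2.1))
    have hbW' : ((b : G) * w * (b : G)⁻¹ * w⁻¹) * w⁻¹ = w⁻¹ * ((b : G) * w * (b : G)⁻¹ * w⁻¹) :=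
      h.pW _ hb _ (inv_mem hw)
    generalize hk : (b : G) * w * (b : G)⁻¹ * w⁻¹ = k at *
    calc k * ((a : G) * w * (a : G)⁻¹ * w⁻¹) = (k * a) * w * (a : G)⁻¹ * w⁻¹ := by group
      _ = (a * k) * w * (a : G)⁻¹ * w⁻¹ := by rw [haW']
      _ = a * (k * w) * (a : G)⁻¹ * w⁻¹ := by group
      _ = a * (w * k) * (a : G)⁻¹ * w⁻¹ := by rw [hbW]
      _ = a * w * (k * (a : G)⁻¹) * w⁻¹ := by group
      _ = a * w * ((a : G)⁻¹ * k) * w⁻¹ := by rw [haW'']
      _ = a * w * (a : G)⁻¹ * (k * w⁻¹) := by group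
      _ = a * w * (a : G)⁻¹ * (w⁻¹ * k) := by rw [hbW']
      _ = _ := by group

theorem hom_apply (h : Cross W W' E E' p q) (X : Subgroup G) {w : G} (hw : w ∈ W)
    (e : (E' ⊓ centralizer (X : Set G) : Subgroup G)) :
    ((h.hom X hw e : p) : G) = (e : G) * w * (e : G)⁻¹ * w⁻¹ := rfl

theorem rel_ne_zero [Finite G] (X Y : Subgroup G) : X.relIndex Y ≠ 0 := by
  rw [relIndex]
  exact index_ne_zero_of_finite

/-- one step of the chain -/
theorem step [Finite G] (h : Cross W W' E E' p q) (X : Subgroup G) {w : G} (hw : w ∈ W) :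
    (E' ⊓ centralizer ((X ⊔ zpowers w : Subgroup G) : Set G)).relIndex
      (E' ⊓ centralizer (X : Set G)) ≤ Nat.card p := by
  classical
  have hker : (h.hom X hw).ker ≤
      (E' ⊓ centralizer ((X ⊔ zpowers w : Subgroup G) : Set G)).subgroupOf
        (E' ⊓ centralizer (X : Set G)) := by
    intro e he
    rw [MonoidHom.mem_ker] at he
    have h1 : (e : G) * w * (e : G)⁻¹ * w⁻¹ = 1 := by
      have := congrArg (fun x : p => (x : G)) he
      simpa [hom_apply] using this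
    have h2 : (e : G) * w = w * e := by
      calc (e : G) * w = ((e : G) * w * (e : G)⁻¹ * w⁻¹) * (w * e) := by group
        _ = w * e := by rw [h1, one_mul]
    rw [mem_subgroupOf]
    refine ⟨e.2.1, ?_⟩
    refine mem_centralizer_iff.mpr ?_
    have hle : X ⊔ zpowers w ≤ centralizer ({(e : G)} : Set G) := by
      refine sup_le ?_ (by
        rw [zpowers_le, mem_centralizer_singleton_iff]; exact h2.symm)
      intro x hx
      rw [mem_centralizer_singleton_iff]
      exact mem_centralizer_iff.mp e.2.2 x hx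
    intro x hx
    exact mem_centralizer_singleton_iff.mp (hle hx)
  have h1 : (E' ⊓ centralizer ((X ⊔ zpowers w : Subgroup G) : Set G)).relIndex
      (E' ⊓ centralizer (X : Set G)) ≤ (h.hom X hw).ker.index := index_antitone hker
  refine h1.trans ?_
  rw [index_ker]
  exact Nat.card_le_card_of_injective _ (Subtype.val_injective)

theorem cen_anti {X Y : Subgroup G} (hXY : X ≤ Y) :
    E' ⊓ centralizer (Y : Set G) ≤ E' ⊓ centralizer (X : Set G) :=
  inf_le_inf_left _ (centralizer_le hXY)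

/-- the chain from `X` to `W` -/
theorem chain [Finite G] (h : Cross W W' E E' p q) : ∀ (n : ℕ) (X : Subgroup G), X ≤ W →
    X.relIndex W ≤ n →
    (E' ⊓ centralizer (W : Set G)).relIndex (E' ⊓ centralizer (X : Set G))
      ≤ (Nat.card p) ^ (Nat.log 2 (X.relIndex W)) := by
  intro n
  induction n with
  | zero =>
    intro X hX hn
    exact absurd (Nat.le_zero.mp hn) ((rel_ne_zero X W))
  | succ n ih =>
    intro X hX hn
    by_cases hXW : X = W
    · subst hXW
      simp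
    · obtain ⟨w, hw, hwX⟩ := SetLike.exists_of_lt (lt_of_le_of_ne hX hXW)
      set Y := X ⊔ zpowers w with hY
      have hYW : Y ≤ W := sup_le hX (by rwa [zpowers_le])
      have hXY : X ≤ Y := le_sup_left
      have hlt : 2 ≤ X.relIndex Y := by
        have h0 : X.relIndex Y ≠ 0 := rel_ne_zero X Y
        have h1 : X.relIndex Y ≠ 1 := by
          intro h1
          exact hwX (relIndex_eq_one.mp h1 (mem_sup_right (mem_zpowers w)))
        omega
      have hmul : X.relIndex Y * Y.relIndex W = X.relIndex W := relIndex_mul_relIndex X Y W hXY hYW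
      have hYpos : Y.relIndex W ≠ 0 := rel_ne_zero Y W
      have hYn : Y.relIndex W ≤ n := by
        have : 2 * Y.relIndex W ≤ X.relIndex W := by
          rw [← hmul]; exact Nat.mul_le_mul_right _ hlt
        omega
      have h1 := ih Y hYW hYn
      have h2 := h.step X hw
      have h3 := relIndex_mul_relIndex (E' ⊓ centralizer (W : Set G)) (E' ⊓ centralizer (Y : Set G))
        (E' ⊓ centralizer (X : Set G)) (cen_anti hYW) (cen_anti hXY)
      rw [← h3]
      have hlog : Nat.log 2 (Y.relIndex W) + 1 ≤ Nat.log 2 (X.relIndex W) := by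
        rw [← Nat.log_mul_base (by norm_num) hYpos]
        apply Nat.log_mono_right
        rw [← hmul, mul_comm]
        exact Nat.mul_le_mul_right _ hlt
      have hpos : 0 < Nat.card p := Nat.card_pos
      calc _ ≤ (Nat.card p) ^ (Nat.log 2 (Y.relIndex W)) * Nat.card p := Nat.mul_le_mul h1 h2
        _ = (Nat.card p) ^ (Nat.log 2 (Y.relIndex W) + 1) := (pow_succ _ _).symm
        _ ≤ _ := Nat.pow_le_pow_right hpos hlog

/-- `|E' : C_{E'}(W)| ≤ |p| ^ log₂ |W : E|` -/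
theorem relIndex_le_pow [Finite G] (h : Cross W W' E E' p q) :
    (centralizer (W : Set G)).relIndex E' ≤ (Nat.card p) ^ (Nat.log 2 (E.relIndex W)) := by
  have h1 := h.chain _ E h.E_le le_rfl
  have h2 : E' ⊓ centralizer (E : Set G) = E' := by
    refine inf_eq_left.mpr fun e' he' => mem_centralizer_iff.mpr fun e he => h.comm he he'
  rw [h2] at h1
  rwa [← inf_relIndex_right, inf_comm]

/-- `|p| = 2`: `|E' : C_{E'}(W)| ≤ |W : E|` -/
theorem relIndex_le [Finite G] (h : Cross W W' E E' p q) (hp : Nat.card p = 2) :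
    (centralizer (W : Set G)).relIndex E' ≤ E.relIndex W := by
  refine h.relIndex_le_pow.trans ?_
  rw [hp]
  exact Nat.pow_log_le_self 2 (rel_ne_zero E W)

/-- `|q| = 2`: `|W : C_W(W')| ≤ |W : E| |W' : E'|` -/
theorem twoF [Finite G] (h : Cross W W' E E' p q) (hq : Nat.card q = 2) :
    (centralizer (W' : Set G)).relIndex W ≤ E.relIndex W * E'.relIndex W' := by
  have h1 := h.symm.relIndex_le hq
  have h2 : (centralizer (W' : Set G)).relIndex W ≤ (centralizer (W' : Set G) ⊓ E).relIndex W :=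
    relIndex_le_of_le_left inf_le_left (rel_ne_zero _ _)
  refine h2.trans ?_
  rw [← relIndex_mul_relIndex (centralizer (W' : Set G) ⊓ E) E W inf_le_right h.E_le,
    inf_relIndex_right, mul_comm]
  exact Nat.mul_le_mul_left _ h1

/-- `E` centralises `W'`: `|W : C_W(W')| ≤ |W : E|` -/
theorem ff [Finite G] (hE : E ≤ centralizer (W' : Set G)) :
    (centralizer (W' : Set G)).relIndex W ≤ E.relIndex W :=
  relIndex_le_of_le_left hE (rel_ne_zero _ _)

/-- On the side of the larger index the offender is a 2F-offender. -/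
theorem dich [Finite G] (h : Cross W W' E E' p q) (hp : Nat.card p = 2) (hq : Nat.card q = 2) :
    (E.relIndex W ≤ E'.relIndex W' ∧
        (centralizer (W' : Set G)).relIndex W ≤ (E'.relIndex W') ^ 2) ∨
      (E'.relIndex W' ≤ E.relIndex W ∧
        (centralizer (W : Set G)).relIndex W' ≤ (E.relIndex W) ^ 2) := by
  rcases le_total (E.relIndex W) (E'.relIndex W') with hle | hle
  · refine Or.inl ⟨hle, (h.twoF hq).trans ?_⟩
    rw [sq]
    exact Nat.mul_le_mul_right _ hle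
  · refine Or.inr ⟨hle, (h.symm.twoF hp).trans ?_⟩
    rw [sq]
    exact Nat.mul_le_mul_right _ hle

/-- The form for the module `M_p = W/p`: `C₁` is the preimage of `C_{M_p}(W')`. -/
theorem twoF_mod [Finite G] (h : Cross W W' E E' p q) (hq : Nat.card q = 2) {C₁ : Subgroup G}
    (hC : W ⊓ centralizer (W' : Set G) ≤ C₁) :
    C₁.relIndex W ≤ E.relIndex W * E'.relIndex W' := by
  refine le_trans ?_ (h.twoF hq)
  rw [← inf_relIndex_right (centralizer (W' : Set G)) W, inf_comm]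
  exact relIndex_le_of_le_left hC (rel_ne_zero _ _)

/-- `ff` for the module `M_p = W/p` -/
theorem ff_mod [Finite G] (hE : E ≤ centralizer (W' : Set G)) (hEW : E ≤ W) {C₁ : Subgroup G}
    (hC : W ⊓ centralizer (W' : Set G) ≤ C₁) : C₁.relIndex W ≤ E.relIndex W :=
  relIndex_le_of_le_left ((le_inf hEW hE).trans hC) (rel_ne_zero _ _)

/-- `E = W ∩ K_q`, `E' = W' ∩ K_p`. -/
theorem of_ker {Kp Kq : Subgroup G} (pW : ∀ x ∈ p, ∀ w ∈ W, x * w = w * x)
    (pW' : ∀ x ∈ p, ∀ w ∈ W', x * w = w * x) (qW : ∀ x ∈ q, ∀ w ∈ W, x * w = w * x)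
    (qW' : ∀ x ∈ q, ∀ w ∈ W', x * w = w * x)
    (hKq : ∀ k ∈ Kq, ∀ w ∈ W', k * w * k⁻¹ * w⁻¹ ∈ q)
    (hKp : ∀ k ∈ Kp, ∀ w ∈ W, k * w * k⁻¹ * w⁻¹ ∈ p) (inf : ∀ x ∈ p, x ∈ q → x = 1) :
    Cross W W' (W ⊓ Kq) (W' ⊓ Kp) p q where
  E_le := inf_le_left
  E_le' := inf_le_left
  pW := pW
  pW' := pW'
  qW := qW
  qW' := qW'
  EW := fun e he w hw => hKq e he.2 w hw
  EW' := fun e he w hw => hKp e he.2 w hw
  inf := inf

end Cross
end Cfsg.Agent.Omega.NOThree
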